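import Mathlib
import Cfsg.Agent.Lib.Perm.PermRank
import Cfsg.Agent.Lib.Char.Artin
import Cfsg.Agent.Lib.Char.TI
import Cfsg.Agent.Lib.Char.Burnside
import Cfsg.Agent.Lib.Char.Constituents

/-!
# Complementary centralisers of coprime order, one of them abelian

A simple group is not the product of the centraliser `A` of an element and an abelian
self-centralising trivially intersecting subgroup `B` of coprime order when every class size is
`|A|` or a multiple of `|B|`. The proof studies the permutation character on the cosets of `A`,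
whose restriction to `B` is regular.
-/

set_option autoImplicit false
set_option linter.unusedSectionVars false
set_option linter.style.haveILetI false

namespace CfsgLib.ConjRank.Factor

open Cfsg CfsgLib.Char MulAction
open scoped ComplexConjugate
open scoped _root_.Classical

variable {G : Type*} [Group G] [Fintype G]

/-- The hypotheses. -/
structure Setup (x : G) (B : Subgroup G) : Prop where
  ne : x ≠ 1
  ne_bot : B ≠ ⊥
  comm : ∀ a ∈ B, ∀ b ∈ B, a * b = b * a
  cent : ∀ v ∈ B, v ≠ 1 → Subgroup.centralizer ({v} : Set G) = B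
  coprime : (Nat.card (Subgroup.centralizer ({x} : Set G))).Coprime (Nat.card B)
  card_mul : Nat.card (Subgroup.centralizer ({x} : Set G)) * Nat.card B = Nat.card G
  sizes : ∀ z : G, z ≠ 1 → Nat.card B ∣ (Subgroup.centralizer ({z} : Set G)).index ∨
    (Subgroup.centralizer ({z} : Set G)).index =
      Nat.card (Subgroup.centralizer ({x} : Set G))

variable {x : G} {B : Subgroup G}

set_option quotPrecheck false in
local notation "Pts" => G ⧸ Subgroup.centralizer ({x} : Set G)

-- the base point
set_option quotPrecheck false in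
local notation "pt₀" => ((1 : G) : G ⧸ Subgroup.centralizer ({x} : Set G))

theorem stab_base : MulAction.stabilizer G pt₀ = Subgroup.centralizer ({x} : Set G) :=
  MulAction.stabilizer_quotient _

theorem fix_iff {g h : G} :
    g • ((h : G) : Pts) = (h : Pts) ↔ h⁻¹ * g * h ∈ Subgroup.centralizer ({x} : Set G) := by
  rw [MulAction.Quotient.smul_coe, smul_eq_mul, eq_comm, QuotientGroup.eq, mul_assoc]

section

variable (S : Setup x B)
include S

theorem Setup.index_eq : (Subgroup.centralizer ({x} : Set G)).index = Nat.card B := by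
  have h := (Subgroup.centralizer ({x} : Set G)).card_mul_index
  rw [← S.card_mul] at h
  exact Nat.eq_of_mul_eq_mul_left Nat.card_pos h

theorem Setup.card_points : Nat.card Pts = Nat.card B := by
  rw [← Subgroup.index_eq_card, S.index_eq]

theorem Setup.one_lt : 1 < Nat.card B := Subgroup.one_lt_card_iff_ne_bot _ |>.mpr S.ne_bot

theorem Setup.faithful [IsSimpleGroup G] {g : G} (h : ∀ p : Pts, g • p = p) : g = 1 := by
  set A := Subgroup.centralizer ({x} : Set G)
  have hmem : g ∈ A.normalCore := fun c => by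
    have e := fix_iff.mp (h ((c⁻¹ : G) : Pts))
    rwa [inv_inv] at e
  rcases A.normalCore_normal.eq_bot_or_eq_top with e | e
  · exact Subgroup.mem_bot.mp (e ▸ hmem)
  · have htop : A = ⊤ := top_le_iff.mp (e ▸ A.normalCore_le)
    have := S.index_eq
    rw [show Subgroup.centralizer ({x} : Set G) = ⊤ from htop, Subgroup.index_top] at this
    exact absurd this (by have := S.one_lt; omega)

theorem Setup.no_fix {v : G} (hv : v ∈ B) (hv1 : v ≠ 1) (p : Pts) : v • p ≠ p := by
  induction p using QuotientGroup.induction_on with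
  | H h =>
    intro e
    have h1 : orderOf v ∣ Nat.card (Subgroup.centralizer ({x} : Set G)) := by
      have := Subgroup.orderOf_dvd_natCard _ (fix_iff.mp e)
      rwa [show h⁻¹ * v * h = MulAut.conj h⁻¹ v by simp, MulEquiv.orderOf_eq] at this
    exact hv1 (orderOf_eq_one_iff.mp (Nat.dvd_one.mp
      (S.coprime ▸ Nat.dvd_gcd h1 (Subgroup.orderOf_dvd_natCard _ hv))))

theorem Setup.card_fix_one : Nat.card (fixedBy Pts (1 : G)) = Nat.card B := by
  rw [fixedBy_one_eq_univ, Nat.card_coe_set_eq, Set.ncard_univ, S.card_points]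

end

/-- The permutation character. -/
noncomputable def pi (x : G) : G → ℂ :=
  fun g => (Nat.card (fixedBy (G ⧸ Subgroup.centralizer ({x} : Set G)) g) : ℂ)

/-! ### Linear characters of `B` and conjugation by the normaliser -/

/-- Conjugation by a normalising element. -/
noncomputable def conjB (h : Subgroup.normalizer (B : Set G)) : B ≃* B where
  toFun b := ⟨(h : G) * b * (h : G)⁻¹, (Subgroup.mem_normalizer_iff.mp h.2 _).mp b.2⟩
  invFun b := ⟨(h : G)⁻¹ * b * h,
    (Subgroup.mem_normalizer_iff.mp h.2 _).mpr (by simpa [mul_assoc] using b.2)⟩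
  left_inv b := Subtype.ext (by simp [mul_assoc])
  right_inv b := Subtype.ext (by simp [mul_assoc])
  map_mul' a b := Subtype.ext (by simp [mul_assoc])

/-- The conjugate of an irreducible character of `B`. -/
noncomputable def cj (h : Subgroup.normalizer (B : Set G)) (lam : IrrCharacter B) : IrrCharacter B :=
  ⟨fun b => (lam : B → ℂ) (conjB h b), isIrrCharacter_comp_mulEquiv (conjB h) lam.2⟩

theorem cj_mul (h g : Subgroup.normalizer (B : Set G)) (lam : IrrCharacter B) :
    cj g (cj h lam) = cj (h * g) lam := by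
  refine Subtype.ext (funext fun b => ?_)
  show (lam : B → ℂ) (conjB h (conjB g b)) = (lam : B → ℂ) (conjB (h * g) b)
  refine congrArg _ (Subtype.ext ?_)
  show (h : G) * ((g : G) * b * (g : G)⁻¹) * (h : G)⁻¹ = (h : G) * g * b * ((h : G) * g)⁻¹
  group

theorem cj_one (lam : IrrCharacter B) : cj (1 : Subgroup.normalizer (B : Set G)) lam = lam := by
  refine Subtype.ext (funext fun b => ?_)
  show (lam : B → ℂ) (conjB 1 b) = _
  refine congrArg _ (Subtype.ext ?_)
  show (1 : G) * b * (1 : G)⁻¹ = b
  group

/-- The trivial character. -/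
noncomputable def triv (H : Type*) [Group H] : IrrCharacter H := ⟨fun _ => 1, isIrrCharacter_one⟩

theorem cj_triv (h : Subgroup.normalizer (B : Set G)) : cj h (triv B) = triv B := rfl

/-- Two characters lie in one orbit of the normaliser. -/
def Orb (lam mu : IrrCharacter B) : Prop :=
  ∃ h : Subgroup.normalizer (B : Set G), lam = cj h mu

theorem Orb.symm {lam mu : IrrCharacter B} (h : Orb lam mu) : Orb mu lam := by
  obtain ⟨g, rfl⟩ := h
  exact ⟨g⁻¹, by rw [cj_mul, mul_inv_cancel, cj_one]⟩

section

variable (S : Setup x B)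
include S

theorem Setup.lam_one (lam : IrrCharacter B) : (lam : B → ℂ) 1 = 1 :=
  degree_one_of_comm (fun a b => Subtype.ext (S.comm a a.2 b b.2)) lam

theorem Setup.mem_normalizer_of_conj {g v : G} (hv : v ∈ B) (hv1 : v ≠ 1)
    (h : g * v * g⁻¹ ∈ B) : g ∈ Subgroup.normalizer (B : Set G) := by
  refine Subgroup.mem_normalizer_fintype fun b hb => ?_
  rw [← S.cent _ h (fun e => hv1 (conj_eq_one_iff.mp e))]
  refine Subgroup.mem_centralizer_singleton_iff.mpr ?_
  calc g * b * g⁻¹ * (g * v * g⁻¹) = g * (b * v) * g⁻¹ := by group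
    _ = g * (v * b) * g⁻¹ := by rw [S.comm b hb v hv]
    _ = g * v * g⁻¹ * (g * b * g⁻¹) := by group

/-- Outside `B` the normaliser fixes no nontrivial character. -/
theorem Setup.mem_of_fix {lam : IrrCharacter B} (hlam : lam ≠ triv B)
    {h : Subgroup.normalizer (B : Set G)} (e : cj h lam = lam) : (h : G) ∈ B := by
  by_contra hh
  apply hlam
  let f : B → B := fun v => v⁻¹ * conjB h v
  have hinj : Function.Injective f := by
    intro v w hvw
    have h1 : conjB h (v * w⁻¹) = v * w⁻¹ := by
      have e1 : conjB h v = v * f v := by simp [f]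
      have e2 : conjB h w = w * f w := by simp [f]
      rw [map_mul, map_inv, e1, e2, hvw, mul_inv_rev, ← mul_assoc, mul_assoc v, mul_inv_cancel,
        mul_one]
    by_contra hne
    have hu : v * w⁻¹ ≠ 1 := fun e => hne (mul_inv_eq_one.mp e)
    apply hh
    refine (S.cent _ (v * w⁻¹).2 (fun e => hu (Subtype.ext e))).le
      (Subgroup.mem_centralizer_singleton_iff.mpr ?_)
    have h2 : (h : G) * ((v * w⁻¹ : B) : G) * (h : G)⁻¹ = ((v * w⁻¹ : B) : G) :=
      congrArg Subtype.val h1
    exact mul_inv_eq_iff_eq_mul.mp h2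
  have hsurj := Finite.injective_iff_surjective.mp hinj
  refine Subtype.ext (funext fun b => ?_)
  obtain ⟨v, rfl⟩ := hsurj b
  have hch : IsCharacter B (lam : B → ℂ) := isCharacter_of_isIrr lam.2
  have h3 : (lam : B → ℂ) (conjB h v) = (lam : B → ℂ) v :=
    congrFun (congrArg Subtype.val e) v
  show (lam : B → ℂ) (v⁻¹ * conjB h v) = 1
  rw [linear_mul hch (S.lam_one lam), h3, ← linear_mul hch (S.lam_one lam), inv_mul_cancel,
    S.lam_one]

theorem Setup.cj_of_mem {h : Subgroup.normalizer (B : Set G)} (hh : (h : G) ∈ B)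
    (lam : IrrCharacter B) : cj h lam = lam := by
  refine Subtype.ext (funext fun b => ?_)
  show (lam : B → ℂ) (conjB h b) = _
  refine congrArg _ (Subtype.ext ?_)
  show (h : G) * b * (h : G)⁻¹ = b
  rw [S.comm _ hh _ b.2, mul_inv_cancel_right]

/-- The number of conjugations carrying one character to another. -/
theorem Setup.sum_cj {lam mu : IrrCharacter B} (hmu : mu ≠ triv B) :
    (∑ h : Subgroup.normalizer (B : Set G),
      classInner (lam : B → ℂ) (cj h mu : B → ℂ)) =
        if Orb lam mu then (Nat.card B : ℂ) else 0 := by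
  simp only [classInner_coe]
  split_ifs with ho
  · obtain ⟨g, rfl⟩ := ho
    rw [Finset.sum_boole]
    congr 1
    rw [Nat.card_eq_fintype_card, ← Fintype.card_subtype]
    refine Fintype.card_congr
      { toFun := fun h => ⟨(h.1 : G) * (g : G)⁻¹, ?_⟩
        invFun := fun b => ⟨⟨b.1, Subgroup.le_normalizer b.2⟩ * g, ?_⟩
        left_inv := fun h => ?_
        right_inv := fun b => ?_ }
    · have e : cj (h.1 * g⁻¹) mu = mu := by rw [← cj_mul, ← h.2, cj_mul, mul_inv_cancel, cj_one]
      simpa using S.mem_of_fix hmu e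
    · rw [← cj_mul, S.cj_of_mem (show ((⟨b.1, Subgroup.le_normalizer b.2⟩ :
        Subgroup.normalizer (B : Set G)) : G) ∈ B from b.2)]
    · exact Subtype.ext (Subtype.ext (by simp))
    · exact Subtype.ext (by simp)
  · refine Finset.sum_eq_zero fun h _ => if_neg fun e => ho ⟨h, e⟩

/-- Induction from `B` seen in `B`. -/
theorem Setup.indFun_apply {d : B → ℂ} (hd : d 1 = 0) (v : B) :
    indFun B d v = (Nat.card B : ℂ)⁻¹ *
      ∑ h : Subgroup.normalizer (B : Set G), d (conjB h v) := by
  simp only [indFun]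
  congr 1
  have hout : ∀ g : G, g ∉ Subgroup.normalizer (B : Set G) →
      extendByZero B d (g * v * g⁻¹) = 0 := fun g hg => by
    by_cases hv : (v : G) = 1
    · rw [hv, mul_one, mul_inv_cancel, ← B.coe_one, extendByZero_coe, hd]
    · by_cases hm : g * (v : G) * g⁻¹ ∈ B
      · exact absurd (S.mem_normalizer_of_conj v.2 hv hm) hg
      · exact extendByZero_notMem _ _ hm
  rw [← Fintype.sum_equiv (Equiv.inv G) (fun g => extendByZero B d (g * v * g⁻¹))
    (fun g => extendByZero B d (g⁻¹ * v * g)) (fun g => by simp)]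
  rw [← Finset.sum_subset (Finset.subset_univ
    (Finset.univ.map (Function.Embedding.subtype (· ∈ Subgroup.normalizer (B : Set G)))))]
  · rw [Finset.sum_map]
    exact Finset.sum_congr rfl fun h _ => extendByZero_coe B d (conjB h v)
  · intro g _ hg
    exact hout g fun hm => hg (Finset.mem_map.mpr ⟨⟨g, hm⟩, Finset.mem_univ _, rfl⟩)

/-- The inner product of induced differences of linear characters. -/
theorem Setup.inner_ind {a b a' b' : IrrCharacter B} (ha : a' ≠ triv B) (hb : b' ≠ triv B) :
    classInner (indFun B ((a : B → ℂ) - b)) (indFun B ((a' : B → ℂ) - b')) =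
      (if Orb a a' then (1 : ℂ) else 0) - (if Orb a b' then (1 : ℂ) else 0) -
      (if Orb b a' then (1 : ℂ) else 0) + (if Orb b b' then (1 : ℂ) else 0) := by
  have h0 : ((a' : B → ℂ) - b') 1 = 0 := by rw [Pi.sub_apply, S.lam_one, S.lam_one, sub_self]
  rw [frobenius_reciprocity B _ (isClassFunction_indFun B _)]
  rw [show (fun v : B => indFun B ((a' : B → ℂ) - b') v) =
    (Nat.card B : ℂ)⁻¹ • ∑ h : Subgroup.normalizer (B : Set G),
      ((cj h a' : B → ℂ) - (cj h b' : B → ℂ)) from funext fun v => by
      rw [S.indFun_apply h0, Pi.smul_apply, Finset.sum_apply, smul_eq_mul]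
      rfl]
  rw [classInner_smul_right, classInner_sum_right]
  simp only [classInner_sub_left, classInner_sub_right, Finset.sum_sub_distrib, S.sum_cj ha,
    S.sum_cj hb, map_inv₀, Complex.conj_natCast]
  have hn : (Nat.card B : ℂ) ≠ 0 := Nat.cast_ne_zero.mpr Nat.card_pos.ne'
  split_ifs <;> field_simp <;> ring

end

/-! ### Constituents of the permutation character -/

/-- The multiplicity of `lam` in the restriction. -/
noncomputable def res (B : Subgroup G) (chi : IrrCharacter G) : B → ℂ :=
  fun b => (chi : G → ℂ) b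

theorem res_cj (chi : IrrCharacter G) (h : Subgroup.normalizer (B : Set G))
    (lam : IrrCharacter B) :
    classInner (res B chi) (cj h lam : B → ℂ) = classInner (res B chi) (lam : B → ℂ) := by
  simp only [classInner]
  congr 1
  refine Fintype.sum_equiv (conjB h).toEquiv _ _ fun b => ?_
  show (chi : G → ℂ) b * conj ((lam : B → ℂ) (conjB h b)) =
    (chi : G → ℂ) ((h : G) * b * (h : G)⁻¹) * conj ((lam : B → ℂ) (conjB h b))
  rw [isClassFunction_of_isCharacter (isCharacter_of_isIrr chi.2) (b : G) (h : G)]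

/-- The data extracted from the permutation character. -/
structure Data (x : G) (B : Subgroup G) (cst : IrrCharacter B → IrrCharacter G)
    (good : Finset (IrrCharacter G)) : Prop where
  mem : ∀ lam, lam ≠ triv B → cst lam ∈ good
  ne_triv : ∀ chi ∈ good, chi ≠ triv G
  expand : ∀ g : G, pi x g = 1 + ∑ chi ∈ good, (chi : G → ℂ) g
  surj : ∀ chi ∈ good, ∃ lam, lam ≠ triv B ∧ cst lam = chi
  inner : ∀ chi ∈ good, ∀ lam : IrrCharacter B, classInner (res B chi) (lam : B → ℂ) =
    if lam ≠ triv B ∧ cst lam = chi then 1 else 0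
  cst_cj : ∀ lam, lam ≠ triv B → ∀ h : Subgroup.normalizer (B : Set G), cst (cj h lam) = cst lam
  norm : classInner (pi x) (pi x) = 1 + (good.card : ℂ)

theorem Setup.data (S : Setup x B) : ∃ cst good, Data x B cst good := by
  obtain ⟨m, hin, hsq, htriv, -⟩ :=
    Cfsg.Agent.Lib.Perm.exists_mult (G := G) (Ω := Pts) pt₀
  have hpic : IsCharacter G (pi x) := by
    unfold pi
    rw [← Cfsg.Agent.Lib.Perm.permRep_character]
    exact isCharacter_character _
  have hexp : pi x = ∑ chi : IrrCharacter G, (m chi : ℂ) • (chi : G → ℂ) := by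
    rw [classFunction_expansion (isClassFunction_of_isCharacter hpic)]
    exact Finset.sum_congr rfl fun chi _ => by rw [← hin chi]; rfl
  choose k hk using fun (chi : IrrCharacter G) (lam : IrrCharacter B) =>
    exists_nat_classInner (isCharacter_restrict B (isCharacter_of_isIrr chi.2))
      (isCharacter_of_isIrr lam.2)
  have hk' : ∀ (chi : IrrCharacter G) (lam : IrrCharacter B), classInner (res B chi) (lam : B → ℂ) = k chi lam := hk
  -- the restriction of the permutation character is regular
  have hreg : ∀ lam : IrrCharacter B, ∑ chi, m chi * k chi lam = 1 := by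
    intro lam
    have h1 : classInner (fun b : B => pi x b) (lam : B → ℂ) = 1 := by
      simp only [classInner]
      rw [Finset.sum_eq_single (1 : B)]
      · rw [Subgroup.coe_one, S.lam_one, map_one, mul_one, pi, S.card_fix_one,
          inv_mul_cancel₀ (Nat.cast_ne_zero.mpr Nat.card_pos.ne')]
      · intro b _ hb
        rw [pi]
        have : IsEmpty (fixedBy Pts (b : G)) :=
          ⟨fun p => S.no_fix b.2 (fun e => hb (Subtype.ext e)) p.1 p.2⟩
        simp
      · simp
    rw [hexp] at h1
    have h2 : (fun b : B => (∑ chi : IrrCharacter G, (m chi : ℂ) • (chi : G → ℂ)) b) =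
        ∑ chi : IrrCharacter G, (m chi : ℂ) • res B chi := by
      funext b; simp [res]
    rw [h2, classInner_sum_left] at h1
    simp only [classInner_smul_left, hk'] at h1
    exact_mod_cast h1
  have hm1 : m (triv G) = 1 := htriv _ rfl
  have hk1 : ∀ lam : IrrCharacter B, k (triv G) lam = if lam = triv B then 1 else 0 := by
    intro lam
    have h1 : classInner (triv B : B → ℂ) (lam : B → ℂ) = k (triv G) lam := hk' (triv G) lam
    rw [classInner_coe] at h1
    by_cases e : lam = triv B
    · rw [if_pos e]; rw [if_pos e.symm] at h1; exact_mod_cast h1.symm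
    · rw [if_neg e]; rw [if_neg (Ne.symm e)] at h1; exact_mod_cast h1.symm
  have hk0 : ∀ chi, chi ≠ triv G → m chi ≠ 0 → k chi (triv B) = 0 := by
    intro chi hchi hm
    have h1 := hreg (triv B)
    rw [← Finset.add_sum_erase _ _ (Finset.mem_univ (triv G)), hm1, hk1, if_pos rfl] at h1
    have h0 : ∑ c ∈ Finset.univ.erase (triv G), m c * k c (triv B) = 0 := by omega
    have h2 := Finset.sum_eq_zero_iff.mp h0 chi
      (Finset.mem_erase.mpr ⟨hchi, Finset.mem_univ _⟩)
    exact (Nat.mul_eq_zero.mp h2).resolve_left hm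
  have huniq : ∀ lam : IrrCharacter B, lam ≠ triv B → ∃ chi : IrrCharacter G, chi ≠ triv G ∧
      m chi = 1 ∧ k chi lam = 1 ∧ ∀ chi', chi' ≠ chi → m chi' * k chi' lam = 0 := by
    intro lam hlam
    obtain ⟨chi, -, hne⟩ := Finset.exists_ne_zero_of_sum_ne_zero
      (show ∑ chi, m chi * k chi lam ≠ 0 by rw [hreg]; exact one_ne_zero)
    have h1 := hreg lam
    rw [← Finset.add_sum_erase _ _ (Finset.mem_univ chi)] at h1
    have h3 : m chi * k chi lam = 1 := by omega
    have hm : m chi = 1 := Nat.eq_one_of_mul_eq_one_right h3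
    have hkk : k chi lam = 1 := Nat.eq_one_of_mul_eq_one_left h3
    have h0 : ∑ c ∈ Finset.univ.erase chi, m c * k c lam = 0 := by omega
    refine ⟨chi, fun e => ?_, hm, hkk, fun chi' h' => Finset.sum_eq_zero_iff.mp h0 chi'
      (Finset.mem_erase.mpr ⟨h', Finset.mem_univ _⟩)⟩
    rw [e, hk1, if_neg hlam] at hkk
    exact zero_ne_one hkk
  have : Nonempty (IrrCharacter G) := ⟨triv G⟩
  choose! cst hcst1 hcst2 hcst3 hcst4 using huniq
  set good := Finset.univ.filter fun chi : IrrCharacter G => m chi ≠ 0 ∧ chi ≠ triv G with hgood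
  have hsurj : ∀ chi ∈ good, ∃ lam, lam ≠ triv B ∧ cst lam = chi := by
    intro chi hchi
    obtain ⟨-, hm, hne⟩ := Finset.mem_filter.mp hchi
    obtain ⟨lam, hlam⟩ : ∃ lam, k chi lam ≠ 0 := by
      by_contra hall
      push Not at hall
      have h1 := congrFun (classFunction_expansion (f := res B chi)
        (isClassFunction_of_isCharacter (isCharacter_restrict B (isCharacter_of_isIrr chi.2)))) 1
      simp [hk', hall] at h1
      exact irr_degree_ne_zero chi.2 (by simpa [res] using h1)
    have hl : lam ≠ triv B := fun e => hlam (e ▸ hk0 chi hne hm)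
    refine ⟨lam, hl, ?_⟩
    by_contra hc
    exact Nat.mul_ne_zero hm hlam (hcst4 lam hl chi (Ne.symm hc))
  have hone : ∀ chi ∈ good, m chi = 1 := fun chi hchi => by
    obtain ⟨lam, hl, rfl⟩ := hsurj chi hchi
    exact hcst2 lam hl
  have hk01 : ∀ chi ∈ good, ∀ lam : IrrCharacter B,
      k chi lam = if lam ≠ triv B ∧ cst lam = chi then 1 else 0 := by
    intro chi hchi lam
    obtain ⟨-, hm, hne⟩ := Finset.mem_filter.mp hchi
    split_ifs with h
    · obtain ⟨h1, rfl⟩ := h
      exact hcst3 lam h1
    · by_cases hl : lam = triv B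
      · exact hl ▸ hk0 chi hne hm
      · exact (Nat.mul_eq_zero.mp (hcst4 lam hl chi fun e => h ⟨hl, e.symm⟩)).resolve_left hm
  have hsplit : ∀ (F : IrrCharacter G → ℂ), ∑ chi, (m chi : ℂ) * F chi =
      F (triv G) + ∑ chi ∈ good, F chi := by
    intro F
    rw [← Finset.add_sum_erase _ _ (Finset.mem_univ (triv G)), hm1, Nat.cast_one, one_mul]
    congr 1
    rw [← Finset.sum_subset (s₁ := good)]
    · exact Finset.sum_congr rfl fun chi h => by rw [hone chi h, Nat.cast_one, one_mul]
    · intro chi h
      exact Finset.mem_erase.mpr ⟨(Finset.mem_filter.mp h).2.2, Finset.mem_univ _⟩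
    · intro chi h h'
      have : m chi = 0 := by
        by_contra hm
        exact h' (Finset.mem_filter.mpr ⟨Finset.mem_univ _, hm, (Finset.mem_erase.mp h).1⟩)
      rw [this, Nat.cast_zero, zero_mul]
  refine ⟨cst, good, ⟨fun lam hl => Finset.mem_filter.mpr
    ⟨Finset.mem_univ _, by rw [hcst2 lam hl]; exact one_ne_zero, hcst1 lam hl⟩,
    fun chi h => (Finset.mem_filter.mp h).2.2, fun g => ?_, hsurj, fun chi hchi lam => ?_,
    fun lam hl h => ?_, ?_⟩⟩
  · rw [hexp, Finset.sum_apply]
    simp only [Pi.smul_apply, smul_eq_mul]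
    rw [hsplit fun chi => (chi : G → ℂ) g]
    rfl
  · rw [hk', hk01 chi hchi lam]
    split_ifs <;> simp
  · have hl' : cj h lam ≠ triv B := fun e => hl (by
      have := congrArg (cj h⁻¹) e
      rwa [cj_mul, mul_inv_cancel, cj_one, cj_triv] at this)
    by_contra hc
    have h2 : k (cst lam) (cj h lam) = 1 := by
      have := hk' (cst lam) (cj h lam)
      rw [res_cj, hk', hcst3 lam hl] at this
      exact_mod_cast this.symm
    have h3 := hcst4 _ hl' (cst lam) (Ne.symm hc)
    rw [hcst2 lam hl, h2] at h3
    exact one_ne_zero h3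
  · rw [hexp, classInner_sum_smul_sum_smul, hsplit fun chi => conj (m chi : ℂ)]
    rw [hm1, Finset.sum_congr rfl fun chi h => by rw [hone chi h, Nat.cast_one, map_one],
      Finset.sum_const, nsmul_eq_mul, mul_one, Nat.cast_one, map_one]

/-! ### The two cases -/

variable [IsSimpleGroup G]

/-- Several constituents. -/
theorem Setup.false_of_distinct (S : Setup x B) {cst : IrrCharacter B → IrrCharacter G}
    {good : Finset (IrrCharacter G)} (D : Data x B cst good) (hf : 1 < good.card) : False := by
  have hne : ∀ lam, lam ≠ triv B → ∃ mu, mu ≠ triv B ∧ cst mu ≠ cst lam := by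
    intro lam hlam
    obtain ⟨chi, hchi, hne⟩ := good.exists_mem_ne hf (cst lam)
    obtain ⟨mu, hmu, rfl⟩ := D.surj chi hchi
    exact ⟨mu, hmu, hne⟩
  have hrefl : ∀ lam : IrrCharacter B, Orb lam lam := fun lam => ⟨1, (cj_one lam).symm⟩
  have horb : ∀ lam mu, mu ≠ triv B → Orb lam mu → cst lam = cst mu := by
    rintro lam mu hmu ⟨h, rfl⟩
    exact D.cst_cj mu hmu h
  have hin : ∀ lam mu : IrrCharacter B, lam ≠ triv B → ∀ nu : IrrCharacter B,
      classInner (indFun B ((mu : B → ℂ) - nu)) (cst lam : G → ℂ) =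
        (if mu ≠ triv B ∧ cst mu = cst lam then 1 else 0) -
          (if nu ≠ triv B ∧ cst nu = cst lam then 1 else 0) := by
    intro lam mu hlam nu
    rw [frobenius_reciprocity B _ (isClassFunction_of_isCharacter (isCharacter_of_isIrr (cst lam).2)),
      show (fun b : B => (cst lam : G → ℂ) b) = res B (cst lam) from rfl, classInner_sub_left,
      ← classInner_conj_symm, ← classInner_conj_symm (res B (cst lam)) (nu : B → ℂ),
      D.inner _ (D.mem lam hlam), D.inner _ (D.mem lam hlam)]
    split_ifs <;> simp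
  have hdiff : ∀ lam mu, lam ≠ triv B → mu ≠ triv B → cst lam ≠ cst mu →
      indFun B ((lam : B → ℂ) - mu) = (cst lam : G → ℂ) - (cst mu : G → ℂ) := by
    intro lam mu hl hm hne
    rw [← sub_eq_zero]
    apply eq_zero_of_classInner_self
    set th := indFun B ((lam : B → ℂ) - mu)
    have h1 : classInner th th = 2 := by
      rw [S.inner_ind hl hm, if_pos (hrefl lam), if_pos (hrefl mu),
        if_neg fun h => hne (horb lam mu hm h), if_neg fun h => hne (horb mu lam hl h).symm]
      norm_num
    have h2 : classInner th (cst lam : G → ℂ) = 1 := by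
      rw [hin lam lam hl mu, if_pos ⟨hl, rfl⟩, if_neg fun h => hne h.2.symm, sub_zero]
    have h3 : classInner th (cst mu : G → ℂ) = -1 := by
      rw [hin mu lam hm mu, if_pos (show mu ≠ triv B ∧ _ from ⟨hm, rfl⟩),
        if_neg fun h => hne h.2, zero_sub]
    have h4 : classInner (cst lam : G → ℂ) th = 1 := by
      rw [← classInner_conj_symm, h2, map_one]
    have h5 : classInner (cst mu : G → ℂ) th = -1 := by
      rw [← classInner_conj_symm, h3, map_neg, map_one]
    simp only [classInner_sub_left, classInner_sub_right, h1, h2, h3, h4, h5, classInner_coe,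
      if_neg hne, if_neg (Ne.symm hne), if_true]
    norm_num
  -- each constituent belongs to one orbit
  have hsingle : ∀ lam nu, lam ≠ triv B → nu ≠ triv B → cst nu = cst lam → Orb nu lam := by
    intro lam nu hl hn he
    by_contra ho
    obtain ⟨mu, hm, hne⟩ := hne lam hl
    have h1 := S.inner_ind (a := lam) (b := mu) (a' := lam) (b' := nu) hl hn
    rw [if_pos (hrefl lam), if_neg fun h => ho h.symm,
      if_neg fun h => hne (horb mu lam hl h),
      if_neg fun h => hne ((horb mu nu hn h).trans he)] at h1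
    rw [hdiff lam mu hl hm (Ne.symm hne), classInner_sub_left, ← classInner_conj_symm,
      hin lam lam hl nu, if_pos ⟨hl, rfl⟩, if_pos ⟨hn, he⟩, sub_self, map_zero,
      ← classInner_conj_symm, hin mu lam hm nu, if_neg fun h => hne h.2.symm,
      if_neg fun h => hne (h.2.symm.trans he), sub_self, map_zero] at h1
    norm_num at h1
  -- a constituent
  have htriv : ∃ lam : IrrCharacter B, lam ≠ triv B := by
    obtain ⟨chi, hchi⟩ := Finset.card_pos.mp (show 0 < good.card by omega)
    obtain ⟨lam, hl, -⟩ := D.surj chi hchi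
    exact ⟨lam, hl⟩
  obtain ⟨lam0, hlam0⟩ := htriv
  set chi := cst lam0 with hchidef
  have hchi : chi ∈ good := D.mem lam0 hlam0
  set O := Finset.univ.filter fun lam : IrrCharacter B => lam ≠ triv B ∧ cst lam = chi with hO
  have hmemO : ∀ lam, lam ∈ O ↔ Orb lam lam0 := by
    intro lam
    rw [hO, Finset.mem_filter]
    refine ⟨fun h => hsingle lam0 lam hlam0 h.2.1 h.2.2, fun h => ⟨Finset.mem_univ _, ?_, ?_⟩⟩
    · intro e
      obtain ⟨g, hg⟩ := h.symm
      exact hlam0 (by rw [hg, e, cj_triv])
    · exact horb lam lam0 hlam0 h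
  set d := O.card with hd
  have hcardN : Nat.card (Subgroup.normalizer (B : Set G)) = d * Nat.card B := by
    have h1 : ∑ lam : IrrCharacter B, ∑ h : Subgroup.normalizer (B : Set G),
        classInner (lam : B → ℂ) (cj h lam0 : B → ℂ) =
          (Nat.card (Subgroup.normalizer (B : Set G)) : ℂ) := by
      rw [Finset.sum_comm]
      simp [classInner_coe, Nat.card_eq_fintype_card]
    simp only [S.sum_cj hlam0] at h1
    rw [← Finset.sum_filter, Finset.sum_const, nsmul_eq_mul,
      show (Finset.univ.filter fun lam => Orb lam lam0) = O from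
        Finset.ext fun lam => by rw [Finset.mem_filter, hmemO]; simp] at h1
    exact_mod_cast h1.symm
  have hres : res B chi = ∑ lam ∈ O, (lam : B → ℂ) := by
    rw [classFunction_expansion (f := res B chi)
      (isClassFunction_of_isCharacter (isCharacter_restrict B (isCharacter_of_isIrr chi.2)))]
    simp only [D.inner chi hchi, ite_smul, one_smul, zero_smul]
    rw [← Finset.sum_filter]
  have hdeg : (chi : G → ℂ) 1 = d := by
    have h1 := congrFun hres 1
    simp only [res, Subgroup.coe_one, Finset.sum_apply, S.lam_one] at h1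
    rw [h1]; simp [hd]
  have hdeg' : ∀ chi' ∈ good, (chi' : G → ℂ) 1 = (chi : G → ℂ) 1 := by
    intro chi' h'
    obtain ⟨mu, hm, rfl⟩ := D.surj chi' h'
    by_cases e : cst mu = chi
    · rw [e]
    · have h1 := congrFun (hdiff mu lam0 hm hlam0 e) 1
      rw [indFun_sub_apply_one B _ _ (by rw [S.lam_one, S.lam_one]), Pi.sub_apply] at h1
      exact sub_eq_zero.mp h1.symm
  set f := good.card
  have hsum1 : (Nat.card B : ℂ) = 1 + f * d := by
    have h1 := D.expand 1
    rw [Finset.sum_congr rfl hdeg', Finset.sum_const, nsmul_eq_mul, hdeg, pi, S.card_fix_one] at h1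
    exact h1
  -- the weight vanishing away from the conjugates of `B`
  set psi : B → ℂ := fun b => if b = 1 then 0 else 1 with hpsi
  set w := indFun B psi with hw
  have hpsi1 : psi 1 = 0 := if_pos rfl
  have hwval : ∀ g : G, w g = 0 ∨ w g = (d : ℂ) := by
    intro g
    by_cases hg : ∃ c : G, c⁻¹ * g * c ∈ B ∧ c⁻¹ * g * c ≠ 1
    · obtain ⟨c, hc, hc1⟩ := hg
      right
      rw [show g = c * (c⁻¹ * g * c) * c⁻¹ by group, hw, isClassFunction_indFun B psi _ c,
        S.indFun_apply hpsi1 ⟨_, hc⟩]
      have : ∀ h : Subgroup.normalizer (B : Set G), psi (conjB h ⟨c⁻¹ * g * c, hc⟩) = 1 := fun h =>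
        if_neg fun e => hc1 (congrArg Subtype.val ((conjB h).map_eq_one_iff.mp e))
      simp only [this, Finset.sum_const, Finset.card_univ, ← Nat.card_eq_fintype_card, hcardN,
        nsmul_eq_mul, mul_one, Nat.cast_mul]
      field_simp [Nat.card_pos.ne']
    · left
      push Not at hg
      rw [hw]
      simp only [indFun]
      rw [Finset.sum_eq_zero fun c _ => ?_, mul_zero]
      by_cases hc : c⁻¹ * g * c ∈ B
      · rw [extendByZero_mem B psi hc]
        exact if_pos (Subtype.ext (hg c hc))
      · exact extendByZero_notMem B psi hc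
  have hwzero : ∀ g : G, w g = 0 → ∀ lam mu, lam ≠ triv B → mu ≠ triv B →
      indFun B ((lam : B → ℂ) - mu) g = 0 := by
    intro g hg lam mu hl hm
    have hd0 : (d : ℂ) ≠ 0 := by
      rw [Nat.cast_ne_zero, hd, ← Nat.pos_iff_ne_zero, Finset.card_pos]
      exact ⟨lam0, (hmemO lam0).mpr (hrefl lam0)⟩
    simp only [indFun]
    rw [Finset.sum_eq_zero fun c _ => ?_, mul_zero]
    by_cases hc : c⁻¹ * g * c ∈ B
    · rw [extendByZero_mem B _ hc]
      have h1 : c⁻¹ * g * c = 1 := by
        by_contra h1
        rw [show g = c * (c⁻¹ * g * c) * c⁻¹ by group, hw, isClassFunction_indFun B psi _ c,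
          S.indFun_apply hpsi1 ⟨_, hc⟩] at hg
        have h2 : ∀ h : Subgroup.normalizer (B : Set G), psi (conjB h ⟨c⁻¹ * g * c, hc⟩) = 1 :=
          fun h => if_neg fun e => h1 (congrArg Subtype.val ((conjB h).map_eq_one_iff.mp e))
        simp [h2, Nat.card_pos.ne'] at hg
      rw [show (⟨_, hc⟩ : B) = 1 from Subtype.ext h1, Pi.sub_apply, S.lam_one, S.lam_one, sub_self]
    · exact extendByZero_notMem B _ hc
  have hS : ∀ g : G, w g = 0 → ∀ chi' ∈ good, (chi' : G → ℂ) g = (chi : G → ℂ) g := by
    intro g hg chi' h'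
    obtain ⟨mu, hm, rfl⟩ := D.surj chi' h'
    by_cases e : cst mu = chi
    · rw [e]
    · have h1 := congrFun (hdiff mu lam0 hm hlam0 e) g
      rw [hwzero g hg mu lam0 hm hlam0, Pi.sub_apply] at h1
      exact sub_eq_zero.mp h1.symm
  have hval : ∀ g : G, w g = 0 → ∃ t : ℕ, t ≤ d ∧ (chi : G → ℂ) g = t ∧
      Nat.card (fixedBy Pts g) = 1 + f * t := by
    intro g hg
    have h1 := D.expand g
    rw [Finset.sum_congr rfl (hS g hg), Finset.sum_const, nsmul_eq_mul, pi] at h1
    set P := Nat.card (fixedBy Pts g)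
    have hf0 : (f : ℂ) ≠ 0 := Nat.cast_ne_zero.mpr (by omega)
    have hq : (chi : G → ℂ) g = ((((P : ℤ) - 1 : ℤ) : ℚ) / (f : ℚ) : ℚ) := by
      push_cast
      rw [eq_div_iff hf0]
      linear_combination -h1
    obtain ⟨t, ht⟩ := exists_int_of_isIntegral_rat (hq ▸ isIntegral_value (isCharacter_of_isIrr chi.2) g)
    rw [ht, Rat.cast_intCast] at hq
    rw [hq] at h1
    have hz : (P : ℤ) = 1 + f * t := by exact_mod_cast h1
    have ht0 : 0 ≤ t := by
      by_contra hneg
      have : (f : ℤ) * t ≤ (f : ℤ) * (-1) := mul_le_mul_of_nonneg_left (by omega) (by positivity)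
      omega
    obtain ⟨t, rfl⟩ := Int.eq_ofNat_of_zero_le ht0
    have hz' : P = 1 + f * t := by exact_mod_cast hz
    refine ⟨t, ?_, by rw [hq]; simp, hz'⟩
    have hle : P ≤ Nat.card B := by
      rw [← S.card_points]
      exact Nat.card_le_card_of_injective _ Subtype.val_injective
    have hn : Nat.card B = 1 + f * d := by exact_mod_cast hsum1
    exact Nat.le_of_mul_le_mul_left (by omega : f * t ≤ f * d) (by omega)
  -- the sums
  set SS := Finset.univ.filter fun g : G => w g = 0
  have hsums : ∀ F : G → ℂ, IsClassFunction G F → ∑ g ∈ SS, F g =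
      ∑ g, F g - (Nat.card (Subgroup.centralizer ({x} : Set G)) : ℂ) / d *
        ∑ b : B, psi b * F b := by
    intro F hF
    have hd0 : (d : ℂ) ≠ 0 := by
      rw [Nat.cast_ne_zero, hd, ← Nat.pos_iff_ne_zero, Finset.card_pos]
      exact ⟨lam0, (hmemO lam0).mpr (hrefl lam0)⟩
    have hrec := frobenius_reciprocity B psi (χ := fun g => conj (F g))
      (fun g h => by simp only [hF g h])
    simp only [classInner, Complex.conj_conj] at hrec
    rw [← S.card_mul, Nat.cast_mul] at hrec
    have hA0 : (Nat.card (Subgroup.centralizer ({x} : Set G)) : ℂ) ≠ 0 :=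
      Nat.cast_ne_zero.mpr Nat.card_pos.ne'
    have hn0 : (Nat.card B : ℂ) ≠ 0 := Nat.cast_ne_zero.mpr Nat.card_pos.ne'
    have h1 : ∑ g : G, w g * F g = (Nat.card (Subgroup.centralizer ({x} : Set G)) : ℂ) *
        ∑ b : B, psi b * F b := by
      field_simp at hrec
      exact hrec
    have h2 : ∀ g : G, w g * F g = (d : ℂ) * (if w g = 0 then 0 else F g) := by
      intro g
      rcases hwval g with e | e <;> simp [e, hd0]
    rw [Finset.sum_congr rfl fun g _ => h2 g, ← Finset.mul_sum] at h1
    have h3 : ∑ g, F g = ∑ g ∈ SS, F g + ∑ g, (if w g = 0 then 0 else F g) := by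
      rw [Finset.sum_filter, ← Finset.sum_add_distrib]
      refine Finset.sum_congr rfl fun g _ => ?_
      split_ifs <;> simp
    rw [h3, div_mul_eq_mul_div, ← h1]
    field_simp
    ring
  have hpsisum : ∀ u : B → ℂ, ∑ b : B, psi b * u b = ∑ b, u b - u 1 := by
    intro u
    rw [← Finset.add_sum_erase _ u (Finset.mem_univ (1 : B)),
      ← Finset.add_sum_erase _ (fun b => psi b * u b) (Finset.mem_univ (1 : B)), hpsi1]
    rw [Finset.sum_congr rfl fun b hb => show psi b * u b = u b by
      rw [show psi b = 1 from if_neg (Finset.mem_erase.mp hb).1, one_mul]]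
    ring
  have hA0 : (Nat.card (Subgroup.centralizer ({x} : Set G)) : ℂ) ≠ 0 :=
    Nat.cast_ne_zero.mpr Nat.card_pos.ne'
  have hn0 : (Nat.card B : ℂ) ≠ 0 := Nat.cast_ne_zero.mpr Nat.card_pos.ne'
  have hG0 : (Nat.card G : ℂ) ≠ 0 := Nat.cast_ne_zero.mpr Nat.card_pos.ne'
  have hBsum : ∑ b : B, (chi : G → ℂ) b = 0 := by
    have h1 := D.inner chi hchi (triv B)
    rw [if_neg fun h => h.1 rfl] at h1
    simpa [classInner, triv, res, hn0] using h1
  have hBsq : ∑ b : B, (chi : G → ℂ) b * conj ((chi : G → ℂ) b) = (Nat.card B : ℂ) * d := by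
    have h1 : classInner (res B chi) (res B chi) = d := by
      nth_rewrite 2 [hres]
      rw [classInner_sum_right, Finset.sum_congr rfl fun lam h => by
        rw [D.inner chi hchi lam, if_pos (Finset.mem_filter.mp h).2]]
      simp [hd]
    simp only [classInner, res] at h1
    rw [inv_mul_eq_iff_eq_mul₀ hn0] at h1
    exact h1
  have hGsum : ∑ g : G, (chi : G → ℂ) g = 0 := by
    have h1 := classInner_irr_ne chi.2 isIrrCharacter_one
      (fun e => D.ne_triv chi hchi (Subtype.ext e))
    simpa [classInner, hG0] using h1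
  have hGsq : ∑ g : G, (chi : G → ℂ) g * conj ((chi : G → ℂ) g) = Nat.card G := by
    have h1 := classInner_irr_self chi.2
    simp only [classInner] at h1
    rw [inv_mul_eq_iff_eq_mul₀ hG0, mul_one] at h1
    exact h1
  choose! t htd htv htp using hval
  have hd0 : (d : ℂ) ≠ 0 := by
    rw [Nat.cast_ne_zero, hd, ← Nat.pos_iff_ne_zero, Finset.card_pos]
    exact ⟨lam0, (hmemO lam0).mpr (hrefl lam0)⟩
  have hcl := isClassFunction_of_isCharacter (isCharacter_of_isIrr chi.2)
  have hT1 : ∑ g ∈ SS, t g = Nat.card (Subgroup.centralizer ({x} : Set G)) := by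
    have h1 := hsums _ hcl
    rw [Finset.sum_congr rfl fun g h => htv g (Finset.mem_filter.mp h).2, hGsum,
      hpsisum fun b => (chi : G → ℂ) b, hBsum, Subgroup.coe_one, hdeg] at h1
    field_simp at h1
    exact_mod_cast (show ((∑ g ∈ SS, t g : ℕ) : ℂ) =
      (Nat.card (Subgroup.centralizer ({x} : Set G)) : ℂ) by
        refine mul_right_cancel₀ hd0 ?_
        push_cast; linear_combination h1)
  have hT2 : ∑ g ∈ SS, t g * t g = Nat.card (Subgroup.centralizer ({x} : Set G)) * d := by
    have h1 := hsums (fun g => (chi : G → ℂ) g * conj ((chi : G → ℂ) g))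
      (fun g h => by simp only [hcl g h])
    rw [Finset.sum_congr rfl fun g h => by rw [htv g (Finset.mem_filter.mp h).2, Complex.conj_natCast],
      hGsq, hpsisum fun b => (chi : G → ℂ) b * conj ((chi : G → ℂ) b), hBsq, Subgroup.coe_one,
      hdeg, Complex.conj_natCast, ← S.card_mul, Nat.cast_mul] at h1
    field_simp at h1
    exact_mod_cast (show ((∑ g ∈ SS, t g * t g : ℕ) : ℂ) =
      (Nat.card (Subgroup.centralizer ({x} : Set G)) : ℂ) * d by
        push_cast
        simp only [pow_two] at h1
        linear_combination h1)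
  -- only the identity has a nonzero value
  have hz : ∑ g ∈ SS, t g * (d - t g) = 0 := by
    have h1 : ∑ g ∈ SS, t g * (d - t g) + ∑ g ∈ SS, t g * t g = ∑ g ∈ SS, t g * d := by
      rw [← Finset.sum_add_distrib]
      refine Finset.sum_congr rfl fun g h => ?_
      rw [← mul_add, Nat.sub_add_cancel (htd g (Finset.mem_filter.mp h).2)]
    rw [← Finset.sum_mul, hT1, hT2] at h1
    omega
  have hfd : Nat.card B = 1 + f * d := by exact_mod_cast hsum1
  have honly : ∀ g ∈ SS, g ≠ 1 → t g = 0 := by
    intro g hg hg1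
    rcases Nat.mul_eq_zero.mp (Finset.sum_eq_zero_iff.mp hz g hg) with e | e
    · exact e
    · exfalso
      have hw0 := (Finset.mem_filter.mp hg).2
      have hte : t g = d := by have := htd g hw0; omega
      refine hg1 (S.faithful fun p => ?_)
      have hall : (fixedBy Pts g) = Set.univ := by
        refine Set.eq_of_subset_of_ncard_le (Set.subset_univ _) ?_
        rw [Set.ncard_univ, S.card_points, ← Nat.card_coe_set_eq, htp g hw0, hte, hfd]
      have hp := Set.mem_univ p
      rw [← hall] at hp
      exact hp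
  have h1S : (1 : G) ∈ SS := Finset.mem_filter.mpr ⟨Finset.mem_univ _, by
    rw [hw, indFun_one, hpsi1, mul_zero]⟩
  have hAd : Nat.card (Subgroup.centralizer ({x} : Set G)) = d := by
    rw [← hT1, Finset.sum_eq_single_of_mem 1 h1S honly]
    have h2 := htv 1 (Finset.mem_filter.mp h1S).2
    rw [hdeg] at h2
    exact_mod_cast h2.symm
  have htop : Subgroup.normalizer (B : Set G) = ⊤ := Subgroup.eq_top_of_card_eq _ (by
    rw [hcardN, ← hAd, S.card_mul])
  have hBn : B.Normal := Subgroup.normalizer_eq_top_iff.mp htop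
  rcases hBn.eq_bot_or_eq_top with e | e
  · exact S.ne_bot e
  · have h2 := S.card_mul
    rw [e, Subgroup.card_top] at h2
    have h3 : Nat.card (Subgroup.centralizer ({x} : Set G)) = 1 :=
      Nat.eq_of_mul_eq_mul_right Nat.card_pos (h2.trans (one_mul _).symm)
    exact S.ne (Subgroup.mem_bot.mp ((Subgroup.card_eq_one.mp h3) ▸
      Subgroup.mem_centralizer_singleton_iff.mpr rfl))

/-- A single constituent: the action is doubly transitive. -/
theorem Setup.false_of_single (S : Setup x B) {cst : IrrCharacter B → IrrCharacter G}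
    {good : Finset (IrrCharacter G)} (D : Data x B cst good) (hf : good.card = 1) : False := by
  obtain ⟨chi, hchi⟩ := Finset.card_eq_one.mp hf
  have hexp : ∀ g, (chi : G → ℂ) g = pi x g - 1 := fun g => by
    rw [D.expand g, hchi, Finset.sum_singleton]; ring
  set A := Subgroup.centralizer ({x} : Set G) with hA
  have hn1 := S.one_lt
  -- transitivity away from the base point
  have htrans : ∀ p q : Pts, p ≠ pt₀ → q ≠ pt₀ → ∃ a ∈ A, a • p = q := by
    intro p q hp hq
    have hrank := D.norm
    rw [hf, show classInner (pi x) (pi x) = _ from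
      Cfsg.Agent.Lib.Perm.classInner_self_eq_rank (G := G) (Ω := Pts) pt₀] at hrank
    have h2 : Nat.card (orbitRel.Quotient (stabilizer G pt₀) Pts) = 2 := by
      exact_mod_cast (hrank.trans (by norm_num : (1 : ℂ) + ((1 : ℕ) : ℂ) = ((2 : ℕ) : ℂ)))
    obtain ⟨u, v, -, huniv⟩ := Nat.card_eq_two_iff.mp h2
    have hne : ∀ r : Pts, r ≠ pt₀ → (Quotient.mk'' r : orbitRel.Quotient (stabilizer G pt₀) Pts) ≠
        Quotient.mk'' pt₀ := by
      intro r hr e
      obtain ⟨⟨s, hs⟩, hs'⟩ := Quotient.eq''.mp e
      exact hr (hs'.symm.trans hs)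
    have hmem : ∀ w : orbitRel.Quotient (stabilizer G pt₀) Pts, w = u ∨ w = v := fun w => by
      have : w ∈ ({u, v} : Set _) := huniv ▸ Set.mem_univ w
      simpa using this
    have e : (Quotient.mk'' q : orbitRel.Quotient (stabilizer G pt₀) Pts) = Quotient.mk'' p := by
      rcases hmem (Quotient.mk'' pt₀) with e0 | e0 <;> rcases hmem (Quotient.mk'' p) with e1 | e1 <;>
        rcases hmem (Quotient.mk'' q) with e2 | e2
      all_goals first
        | exact e2.trans e1.symm
        | exact absurd (e1.trans e0.symm) (hne p hp)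
        | exact absurd (e2.trans e0.symm) (hne q hq)
    obtain ⟨⟨s, hs⟩, hs'⟩ := Quotient.eq''.mp e
    refine ⟨s, ?_, hs'⟩
    rw [stab_base] at hs
    exact hs
  have hxo : x • pt₀ = pt₀ := fix_iff.mpr (by
    rw [inv_one, one_mul, mul_one]; exact Subgroup.mem_centralizer_singleton_iff.mpr rfl)
  have hxfix : ∀ p : Pts, x • p = p → p = pt₀ := by
    intro p hp
    by_contra hpo
    refine S.ne (S.faithful fun q => ?_)
    by_cases hq : q = pt₀
    · rw [hq, hxo]
    · obtain ⟨a, ha, rfl⟩ := htrans p q hpo hq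
      rw [smul_smul, ← Subgroup.mem_centralizer_singleton_iff.mp ha, ← smul_smul, hp]
  have hconjfix : ∀ (c : G) (p : Pts), (c * x * c⁻¹) • p = p → p = c • pt₀ := by
    intro c p hp
    have h1 : x • c⁻¹ • p = c⁻¹ • p := by
      conv_rhs => rw [← hp]
      rw [smul_smul, smul_smul, show c⁻¹ * (c * x * c⁻¹) = x * c⁻¹ by group]
    rw [← hxfix _ h1, smul_inv_smul]
  -- the class of `x` is mapped bijectively to the points
  set X := {y : G | IsConj x y}
  have hXcard : Nat.card X = Nat.card Pts := by
    rw [show X = {y : G | IsConj y x} from Set.ext fun y => ⟨IsConj.symm, IsConj.symm⟩,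
      S.card_points, ← S.index_eq]
    exact card_isConj_eq_index x
  have hbij : ∀ i : Pts, Function.Bijective fun y : X => (y : G) • i := by
    intro i
    refine (Nat.bijective_iff_surjective_and_card _).mpr ⟨fun j => ?_, hXcard⟩
    obtain ⟨g, rfl⟩ := MulAction.exists_smul_eq G pt₀ i
    by_cases hj : j = g • pt₀
    · exact ⟨⟨g * x * g⁻¹, isConj_iff.mpr ⟨g, rfl⟩⟩, by
        show (g * x * g⁻¹) • g • pt₀ = j
        rw [smul_smul, inv_mul_cancel_right, ← smul_smul, hxo, hj]⟩
    · obtain ⟨j1, hj1⟩ : ∃ j1 : Pts, j1 ≠ g • pt₀ := ⟨j, hj⟩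
      obtain ⟨c, rfl⟩ := MulAction.exists_smul_eq G pt₀ j1
      set y := g⁻¹ * (c * x * c⁻¹) * g with hy
      have hyo : y • pt₀ ≠ pt₀ := fun e => by
        have h1 : (c * x * c⁻¹) • g • pt₀ = g • pt₀ := by
          conv_rhs => rw [← e]
          rw [hy, smul_smul, smul_smul]; congr 1; group
        exact hj1 (hconjfix c _ h1).symm
      obtain ⟨a, ha, hay⟩ := htrans (y • pt₀) (g⁻¹ • j) hyo
        (fun e => hj (by rw [← e, smul_inv_smul]))
      refine ⟨⟨g * (a * y * a⁻¹) * g⁻¹, isConj_iff.mpr ⟨g * a * g⁻¹ * c, by rw [hy]; group⟩⟩, ?_⟩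
      show (g * (a * y * a⁻¹) * g⁻¹) • g • pt₀ = j
      have hao : a⁻¹ • pt₀ = pt₀ := by
        have : a⁻¹ ∈ stabilizer G pt₀ := by rw [stab_base]; exact inv_mem ha
        exact this
      rw [smul_smul, inv_mul_cancel_right, ← smul_smul, ← smul_smul, ← smul_smul, hao, hay,
        smul_inv_smul]
  -- a point and the two point stabiliser
  obtain ⟨p, hp⟩ : ∃ p : Pts, p ≠ pt₀ := by
    by_contra hall
    push Not at hall
    have : Subsingleton Pts := ⟨fun a b => (hall a).trans (hall b).symm⟩
    have h1 := Finite.card_le_one_iff_subsingleton.mpr this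
    rw [S.card_points] at h1
    omega
  obtain ⟨c, hc⟩ := MulAction.exists_smul_eq G pt₀ p
  set x2 := c * x * c⁻¹ with hx2
  set z := x⁻¹ * x2 with hz
  have hzfix : ∀ i : Pts, z • i ≠ i := by
    intro i e
    have h1 : x2 • i = x • i := by
      conv_rhs => rw [← e]
      rw [smul_smul, hz, mul_inv_cancel_left]
    have h2 := (hbij i).1 (a₁ := (⟨x2, isConj_iff.mpr ⟨c, rfl⟩⟩ : X))
      (a₂ := ⟨x, IsConj.refl x⟩) h1
    have h3 : x2 = x := congrArg Subtype.val h2
    have h4 : x2 • p = p := by
      rw [← hc, hx2, smul_smul, inv_mul_cancel_right, ← smul_smul, hxo]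
    have : p = pt₀ := hxfix p ((congrArg (· • p) h3).symm.trans h4)
    exact hp this
  have hz1 : z ≠ 1 := fun e => hzfix pt₀ (by rw [e, one_smul])
  have hchiz : (chi : G → ℂ) z = -1 := by
    rw [hexp, pi]
    have : IsEmpty (fixedBy Pts z) := ⟨fun q => hzfix q.1 q.2⟩
    simp
  have hchi1 : (chi : G → ℂ) 1 = ((Nat.card B - 1 : ℕ) : ℂ) := by
    rw [hexp, pi, S.card_fix_one, Nat.cast_sub hn1.le, Nat.cast_one]
  set k := (Subgroup.centralizer ({z} : Set G)).index with hk
  have hdvd : Nat.card B - 1 ∣ k := by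
    refine dvd_of_isIntegral_div (by omega) ?_
    have h1 := (isIntegral_omega_irr chi.2 z).neg
    rw [omega, hchiz, hchi1, mul_neg_one, neg_div, neg_neg] at h1
    exact h1
  -- the two point stabiliser
  set D := A ⊓ stabilizer G p with hD
  have hDindex : D.index = Nat.card B * (Nat.card B - 1) := by
    have h1 : D.subgroupOf A = stabilizer A p := by
      ext a
      simp only [hD, Subgroup.mem_subgroupOf, Subgroup.mem_inf, SetLike.coe_mem, true_and,
        mem_stabilizer_iff]
      rfl
    have h2 : (orbit A p) = {pt₀}ᶜ := by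
      ext q
      simp only [Set.mem_compl_iff, Set.mem_singleton_iff, mem_orbit_iff]
      constructor
      · rintro ⟨⟨a, ha⟩, rfl⟩ e
        apply hp
        have : a⁻¹ ∈ stabilizer G pt₀ := by rw [stab_base]; exact inv_mem ha
        calc p = a⁻¹ • a • p := (inv_smul_smul a p).symm
          _ = a⁻¹ • pt₀ := congrArg _ e
          _ = pt₀ := this
      · intro hq
        obtain ⟨a, ha, e⟩ := htrans p q hp hq
        exact ⟨⟨a, ha⟩, e⟩
    rw [← Subgroup.relIndex_mul_index (show D ≤ A from inf_le_left), Subgroup.relIndex, h1,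
      index_stabilizer, h2, Set.ncard_compl, Set.ncard_singleton, S.card_points, S.index_eq,
      mul_comm]
  have hDz : D ≤ Subgroup.centralizer ({z} : Set G) := by
    intro d hd
    rw [Subgroup.mem_centralizer_singleton_iff]
    have h1 : Commute d x := Subgroup.mem_centralizer_singleton_iff.mp hd.1
    have h2 : Commute d x2 := by
      have h3 : d • c • pt₀ = c • pt₀ := by rw [hc]; exact hd.2
      have h4 : c⁻¹ * d * c ∈ A := by
        have : c⁻¹ * d * c ∈ stabilizer G pt₀ := by
          show (c⁻¹ * d * c) • pt₀ = pt₀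
          rw [← smul_smul, ← smul_smul, h3, inv_smul_smul]
        rwa [stab_base] at this
      have h5 : Commute (c⁻¹ * d * c) x := Subgroup.mem_centralizer_singleton_iff.mp h4
      calc d * x2 = c * ((c⁻¹ * d * c) * x) * c⁻¹ := by rw [hx2]; group
        _ = c * (x * (c⁻¹ * d * c)) * c⁻¹ := by rw [h5.eq]
        _ = x2 * d := by rw [hx2]; group
    exact h1.inv_right.mul_right h2
  have hkD : k ∣ Nat.card B * (Nat.card B - 1) := hDindex ▸ Subgroup.index_dvd_of_le hDz
  have hcop1 : (Nat.card B).Coprime (Nat.card B - 1) := by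
    have h := Nat.coprime_self_add_right.mpr (Nat.coprime_one_right (Nat.card B - 1))
    rw [show Nat.card B - 1 + 1 = Nat.card B by omega] at h
    exact h.symm
  rcases S.sizes z hz1 with e | e
  · have hkeq : k = D.index := by
      rw [hDindex]
      exact Nat.dvd_antisymm hkD (hcop1.mul_dvd_of_dvd_of_dvd e hdvd)
    have heq : D = Subgroup.centralizer ({z} : Set G) := by
      refine Subgroup.eq_of_le_of_card_ge hDz ?_
      have h1 := D.card_mul_index
      rw [← (Subgroup.centralizer ({z} : Set G)).card_mul_index, ← hk, ← hkeq] at h1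
      exact (Nat.eq_of_mul_eq_mul_right (Nat.pos_of_ne_zero Subgroup.index_ne_zero_of_finite) h1).ge
    have hzD : z ∈ D := heq ▸ Subgroup.mem_centralizer_singleton_iff.mpr rfl
    refine hzfix pt₀ ?_
    have : z ∈ stabilizer G pt₀ := by rw [stab_base]; exact hzD.1
    exact this
  · rw [← hk] at e
    have hcA : k.Coprime (Nat.card B) := e ▸ S.coprime
    have hkn : k = Nat.card B - 1 := Nat.dvd_antisymm (hcA.dvd_of_dvd_mul_left hkD) hdvd
    have hAn : Nat.card A = Nat.card B - 1 := e.symm.trans hkn
    have hGcard : Nat.card G = (Nat.card B - 1) * Nat.card B := by rw [← S.card_mul, ← hA, hAn]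
    have hD1 : D = ⊥ := by
      refine Subgroup.eq_bot_of_card_eq _ ?_
      have h1 := D.card_mul_index
      rw [hDindex, hGcard, mul_comm (Nat.card B - 1)] at h1
      refine Nat.eq_of_mul_eq_mul_right ?_ (h1.trans (one_mul _).symm)
      exact Nat.mul_pos (by omega) (by omega)
    have hle1 : ∀ g : G, g ≠ 1 → Nat.card (fixedBy Pts g) ≤ 1 := by
      intro g hg
      rw [Finite.card_le_one_iff_subsingleton]
      refine ⟨fun ⟨i, hi⟩ ⟨j, hj⟩ => Subtype.ext ?_⟩
      by_contra hij
      obtain ⟨u, rfl⟩ := MulAction.exists_smul_eq G pt₀ i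
      have hne : u⁻¹ • j ≠ pt₀ := fun e' => hij (by
        show u • pt₀ = j
        rw [← e', smul_inv_smul])
      obtain ⟨a, ha, hae⟩ := htrans (u⁻¹ • j) p hne hp
      refine hg ?_
      set g' := a * (u⁻¹ * g * u) * a⁻¹ with hg'
      have hao : a • pt₀ = pt₀ := by
        have : a ∈ stabilizer G pt₀ := by rw [stab_base]; exact ha
        exact this
      have hao' : a⁻¹ • pt₀ = pt₀ := by rw [inv_smul_eq_iff, hao]
      have hgi : g • u • pt₀ = u • pt₀ := hi
      have hgj : g • j = j := hj
      have h1 : g' ∈ D := by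
        refine ⟨?_, ?_⟩
        · have : g' ∈ stabilizer G pt₀ := by
            show g' • pt₀ = pt₀
            rw [hg', ← smul_smul, hao', ← smul_smul, ← smul_smul, ← smul_smul, hgi, inv_smul_smul,
              hao]
          rwa [stab_base] at this
        · show g' • p = p
          rw [hg', ← hae, ← smul_smul, inv_smul_smul, ← smul_smul, ← smul_smul, ← smul_smul,
            smul_inv_smul, hgj]
      rw [hD1, Subgroup.mem_bot, hg', conj_eq_one_iff] at h1
      calc g = u * (u⁻¹ * g * u) * u⁻¹ := by group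
        _ = 1 := by rw [h1]; group
    set F := Finset.univ.filter fun g : G => Nat.card (fixedBy Pts g) = 0 with hF
    have hFcard : F.card = Nat.card B - 1 := by
      have hsum := Cfsg.Agent.Lib.Perm.sum_fixedBy (G := G) (X := Pts)
      haveI : Subsingleton (orbitRel.Quotient G Pts) :=
        (MulAction.pretransitive_iff_subsingleton_quotient G Pts).1 inferInstance
      haveI : Nonempty (orbitRel.Quotient G Pts) := ⟨Quotient.mk'' pt₀⟩
      rw [Nat.card_eq_one_iff_unique.mpr ⟨inferInstance, inferInstance⟩, one_mul] at hsum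
      have h1 : ∑ g : G, (Nat.card (fixedBy Pts g) + if Nat.card (fixedBy Pts g) = 0 then 1 else 0) =
          ∑ g : G, (1 + if g = 1 then Nat.card B - 1 else 0) := by
        refine Finset.sum_congr rfl fun g _ => ?_
        by_cases hg : g = 1
        · subst hg
          rw [S.card_fix_one, if_neg (by omega), if_pos rfl]; omega
        · have := hle1 g hg
          rw [if_neg hg]
          split_ifs <;> omega
      rw [Finset.sum_add_distrib, Finset.sum_add_distrib, hsum, ← Finset.card_filter,
        Finset.sum_const, Finset.card_univ, Finset.sum_ite_eq', if_pos (Finset.mem_univ _),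
        ← Nat.card_eq_fintype_card, smul_eq_mul, mul_one, ← hF] at h1
      omega
    have hBF : (Finset.univ.filter fun g : G => g ∈ B ∧ g ≠ 1) = F := by
      refine Finset.eq_of_subset_of_card_le (fun g hg => ?_) ?_
      · obtain ⟨-, hgB, hg1⟩ := Finset.mem_filter.mp hg
        have : IsEmpty (fixedBy Pts g) := ⟨fun q => S.no_fix hgB hg1 q.1 q.2⟩
        exact Finset.mem_filter.mpr ⟨Finset.mem_univ _, Nat.card_of_isEmpty⟩
      · rw [hFcard, show (Finset.univ.filter fun g : G => g ∈ B ∧ g ≠ 1) =
          (Finset.univ.filter fun g : G => g ∈ B).erase 1 from Finset.ext fun g => by simp [and_comm],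
          Finset.card_erase_of_mem (by simp), ← Fintype.card_subtype, ← Nat.card_eq_fintype_card]
    have hBn : B.Normal := by
      refine ⟨fun b hb g => ?_⟩
      by_cases hb1 : b = 1
      · simp [hb1]
      have h1 : g * b * g⁻¹ ∈ F := by
        have : IsEmpty (fixedBy Pts (g * b * g⁻¹)) := ⟨fun q => S.no_fix hb hb1 (g⁻¹ • q.1) (by
          have hq : (g * b * g⁻¹) • q.1 = q.1 := q.2
          conv_rhs => rw [← hq]
          rw [smul_smul, smul_smul]; congr 1; group)⟩
        exact Finset.mem_filter.mpr ⟨Finset.mem_univ _, Nat.card_of_isEmpty⟩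
      rw [← hBF] at h1
      exact (Finset.mem_filter.mp h1).2.1
    rcases hBn.eq_bot_or_eq_top with e' | e'
    · exact S.ne_bot e'
    · have h2 := S.card_mul
      rw [e', Subgroup.card_top] at h2
      have h3 : Nat.card A = 1 := Nat.eq_of_mul_eq_mul_right Nat.card_pos (h2.trans (one_mul _).symm)
      exact S.ne (Subgroup.mem_bot.mp ((Subgroup.card_eq_one.mp h3) ▸
        (Subgroup.mem_centralizer_singleton_iff.mpr rfl : x ∈ A)))

theorem Setup.absurd (S : Setup x B) : False := by
  obtain ⟨cst, good, D⟩ := S.data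
  rcases Nat.lt_trichotomy good.card 1 with h | h | h
  · have h1 := D.expand 1
    rw [Finset.card_eq_zero.mp (Nat.lt_one_iff.mp h), Finset.sum_empty, add_zero, pi,
      S.card_fix_one] at h1
    have := S.one_lt
    norm_cast at h1
    omega
  · exact S.false_of_single D h
  · exact S.false_of_distinct D h

end CfsgLib.ConjRank.Factor
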