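import Cfsg.Agent.Lib.ConjRank.FGroup
import Cfsg.Agent.Lib.ConjRank.Factor

/-!
# Simple groups with three class sizes of non-identity elements
-/

set_option autoImplicit false
set_option linter.unusedSectionVars false
set_option linter.style.haveILetI false

namespace CfsgLib.ConjRank

variable {G : Type*} [Group G] [Finite G]

theorem index_ne_one [IsSimpleGroup G] (hG : ¬ IsMulCommutative G) {x : G} (hx : x ≠ 1) :
    (C x).index ≠ 1 := by
  intro h
  have hc : x ∈ Subgroup.center G := Subgroup.mem_center_iff.mpr fun g =>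
    (mem_C.mp (Subgroup.index_eq_one.mp h ▸ Subgroup.mem_top g)).eq
  rcases (inferInstance : (Subgroup.center G).Normal).eq_bot_or_eq_top with e | e
  · exact hx (Subgroup.mem_bot.mp (e ▸ hc))
  · exact hG ⟨⟨fun a b => Subgroup.mem_center_iff.mp (e ▸ Subgroup.mem_top b) a⟩⟩

/-- A Sylow subgroup has a nontrivial central element. -/
theorem exists_sylow_central {p : ℕ} [Fact p.Prime] (hp : p ∣ Nat.card G) (P : Sylow p G) :
    ∃ z ∈ (P : Subgroup G), z ≠ 1 ∧ (P : Subgroup G) ≤ C z ∧ ¬ p ∣ (C z).index := by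
  have : Nontrivial (P : Subgroup G) := (Subgroup.nontrivial_iff_ne_bot _).mpr (P.ne_bot_of_dvd_card hp)
  have : Nontrivial (Subgroup.center (P : Subgroup G)) := P.2.center_nontrivial
  obtain ⟨⟨z, hz⟩, hne⟩ := exists_ne (1 : Subgroup.center (P : Subgroup G))
  have hle : (P : Subgroup G) ≤ C (z : G) := fun w hw =>
    mem_C.mpr (congrArg Subtype.val (Subgroup.mem_center_iff.mp hz ⟨w, hw⟩))
  refine ⟨z, z.2, fun e => hne (Subtype.ext (Subtype.ext e)), hle, fun h => ?_⟩
  exact P.not_dvd_index (h.trans (Subgroup.index_dvd_of_le hle))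

theorem C_conj (g x : G) : C (g * x * g⁻¹) = (C x).map (MulAut.conj g).toMonoidHom := by
  ext z
  rw [CfsgLib.Invol.CASimple.cent_conj, Subgroup.mem_map_equiv]
  simp

theorem index_conj (g x : G) : (C (g * x * g⁻¹)).index = (C x).index := by
  rw [C_conj]
  exact Subgroup.index_map_equiv _ (MulAut.conj g)

/-- An element whose class size is prime to `p` has a conjugate centralising a given Sylow
`p`-subgroup. -/
theorem exists_conj_ge {p : ℕ} [Fact p.Prime] {x : G} (hx : ¬ p ∣ (C x).index) (P : Sylow p G) :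
    ∃ g : G, (P : Subgroup G) ≤ C (g * x * g⁻¹) := by
  obtain ⟨Q⟩ : Nonempty (Sylow p (C x)) := inferInstance
  have hQG : IsPGroup p ((Q : Subgroup (C x)).map (C x).subtype) := Q.2.map _
  obtain ⟨Q', hQ'⟩ := hQG.exists_le_sylow
  have hcard : Nat.card (Q' : Subgroup G) ≤ Nat.card ((Q : Subgroup (C x)).map (C x).subtype) := by
    rw [Subgroup.card_map_of_injective (C x).subtype_injective, Q'.card_eq_multiplicity,
      Q.card_eq_multiplicity, ← (C x).card_mul_index,
      Nat.factorization_mul Nat.card_pos.ne' Subgroup.index_ne_zero_of_finite]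
    simp [Nat.factorization_eq_zero_of_not_dvd hx]
  have heq := Subgroup.eq_of_le_of_card_ge hQ' hcard
  obtain ⟨g, hg⟩ := MulAction.exists_smul_eq G Q' P
  refine ⟨g, ?_⟩
  rw [← hg, Sylow.coe_subgroup_smul, ← heq, C_conj]
  exact Subgroup.map_mono (Subgroup.map_subtype_le _)

/-- A commuting pair with coprime class sizes does not exist in a nonabelian simple group. -/
theorem false_of_commute_coprime [IsSimpleGroup G] (hG : ¬ IsMulCommutative G) {x y : G}
    (hx : x ≠ 1) (hy : y ≠ 1) (hc : (C x).index.Coprime (C y).index) (hxy : Commute x y) : False := by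
  set H := C x with hH
  set K := C y with hK
  have hinf : (H ⊓ K).index = H.index * K.index :=
    le_antisymm (Subgroup.index_inf_le ..) (Nat.le_of_dvd (Nat.pos_of_ne_zero Subgroup.index_ne_zero_of_finite)
      (hc.mul_dvd_of_dvd_of_dvd (Subgroup.index_dvd_of_le inf_le_left)
        (Subgroup.index_dvd_of_le inf_le_right)))
  have hrel : H.relIndex K = H.index := by
    have h1 := Subgroup.relIndex_mul_index (inf_le_right : H ⊓ K ≤ K)
    rw [Subgroup.inf_relIndex_right, hinf] at h1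
    exact Nat.eq_of_mul_eq_mul_right (Nat.pos_of_ne_zero Subgroup.index_ne_zero_of_finite) h1
  have horb : MulAction.orbit K ((1 : G) : G ⧸ H) = Set.univ := by
    refine Set.eq_of_subset_of_ncard_le (Set.subset_univ _) ?_
    rw [Set.ncard_univ, ← Subgroup.index_eq_card, ← hrel, Subgroup.relIndex,
      ← MulAction.index_stabilizer]
    refine le_of_eq (congrArg Subgroup.index ?_)
    ext k
    rw [MulAction.mem_stabilizer_iff, Subgroup.mem_subgroupOf]
    show (k : G) ∈ H ↔ (k : G) • ((1 : G) : G ⧸ H) = _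
    rw [← MulAction.mem_stabilizer_iff, MulAction.stabilizer_quotient]
  have hcl : ∀ g : G, g * x * g⁻¹ ∈ K := by
    intro g
    obtain ⟨k, hk⟩ : ∃ k : K, k • ((1 : G) : G ⧸ H) = (g : G ⧸ H) :=
      MulAction.mem_orbit_iff.mp (horb ▸ Set.mem_univ _)
    have hk' : (((k : G) : G) : G ⧸ H) = (g : G ⧸ H) := by
      rw [← hk]
      show _ = (((k : G) * 1 : G) : G ⧸ H)
      rw [mul_one]
    have h1 : (k : G)⁻¹ * g ∈ H := QuotientGroup.eq.mp hk'
    have h2 : g * x * g⁻¹ = (k : G) * x * (k : G)⁻¹ := by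
      have h3 := (mem_C.mp h1).eq
      calc g * x * g⁻¹ = (k : G) * ((k : G)⁻¹ * g * x) * g⁻¹ := by group
        _ = (k : G) * (x * ((k : G)⁻¹ * g)) * g⁻¹ := by rw [h3]
        _ = _ := by group
    rw [h2]
    exact mul_mem (mul_mem k.2 (mem_C.mpr hxy)) (inv_mem k.2)
  have hle : Subgroup.normalClosure ({x} : Set G) ≤ K := by
    refine (Subgroup.closure_le K).mpr fun z hz => ?_
    obtain ⟨w, rfl, hwz⟩ := Group.mem_conjugatesOfSet_iff.mp hz
    obtain ⟨g, rfl⟩ := isConj_iff.mp hwz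
    exact hcl g
  rcases (inferInstance : (Subgroup.normalClosure ({x} : Set G)).Normal).eq_bot_or_eq_top with e | e
  · exact hx (Subgroup.mem_bot.mp (e ▸ Subgroup.subset_normalClosure rfl))
  · exact index_ne_one hG hy (Subgroup.index_eq_one.mpr (top_le_iff.mp (e ▸ hle)))

/-- The hypothesis: three values, one properly dividing another. -/
structure Chain (G : Type*) [Group G] (a b c : ℕ) : Prop where
  values : ∀ x : G, x ≠ 1 → (C x).index = a ∨ (C x).index = b ∨ (C x).index = c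
  ex_a : ∃ x : G, x ≠ 1 ∧ (C x).index = a
  ex_c : ∃ x : G, x ≠ 1 ∧ (C x).index = c
  dvd : a ∣ b
  ne : a ≠ b
  coprime : a.Coprime c
  nca : ¬ c ∣ a
  nac : ¬ a ∣ c
  nbc : ¬ b ∣ c

theorem three_dichotomy [IsSimpleGroup G] (hG : ¬ IsMulCommutative G)
    (h3 : {m : ℕ | ∃ x : G, x ≠ 1 ∧ m = (C x).index}.ncard = 3) :
    (∀ x y : G, x ≠ 1 → y ≠ 1 → C x ≤ C y → C x = C y) ∨ ∃ a b c, Chain G a b c := by
  set I := {m : ℕ | ∃ x : G, x ≠ 1 ∧ m = (C x).index}
  by_cases hdiv : ∀ u ∈ I, ∀ v ∈ I, u ∣ v → u = v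
  · refine Or.inl fun x y hx hy hle => Subgroup.eq_of_le_of_card_ge hle ?_
    have e : (C y).index = (C x).index :=
      hdiv _ ⟨y, hy, rfl⟩ _ ⟨x, hx, rfl⟩ (Subgroup.index_dvd_of_le hle)
    have h1 := (C x).card_mul_index
    rw [← (C y).card_mul_index, e] at h1
    exact (Nat.eq_of_mul_eq_mul_right (Nat.pos_of_ne_zero Subgroup.index_ne_zero_of_finite) h1).ge
  right
  push Not at hdiv
  obtain ⟨a, ha, b, hb, hab, hne⟩ := hdiv
  obtain ⟨c, hc, hca, hcb⟩ : ∃ c ∈ I, c ≠ a ∧ c ≠ b := by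
    by_contra hno
    push Not at hno
    have := Set.ncard_le_ncard (show I ⊆ {a, b} from fun u hu => by
      by_cases e : u = a
      · exact Or.inl e
      · exact Or.inr (hno u hu e)) (Set.toFinite _)
    rw [h3, Set.ncard_pair hne] at this
    omega
  have hI : I = {a, b, c} := by
    symm
    refine Set.eq_of_subset_of_ncard_le (fun u hu => ?_) ?_ ?_
    · simp only [Set.mem_insert_iff, Set.mem_singleton_iff] at hu
      rcases hu with rfl | rfl | rfl <;> assumption
    · rw [h3, Set.ncard_insert_of_notMem (by simp [hne, hca.symm]), Set.ncard_pair hcb.symm]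
    · exact Set.finite_of_ncard_pos (by omega)
  -- every prime misses a value
  have hmiss : ∀ p : ℕ, p.Prime → p ∣ Nat.card G → ¬ p ∣ a ∨ ¬ p ∣ b ∨ ¬ p ∣ c := by
    intro p hp hpd
    have := Fact.mk hp
    obtain ⟨P⟩ : Nonempty (Sylow p G) := inferInstance
    obtain ⟨z, -, hz1, -, hzd⟩ := exists_sylow_central hpd P
    have : (C z).index ∈ I := ⟨z, hz1, rfl⟩
    rw [hI] at this
    simp only [Set.mem_insert_iff, Set.mem_singleton_iff] at this
    rcases this with e | e | e <;> rw [e] at hzd <;> simp [hzd]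
  have hnotall : ∀ u ∈ I, ∃ p : ℕ, p.Prime ∧ p ∣ Nat.card G ∧ p ∣ u := by
    rintro u ⟨x, hx, rfl⟩
    obtain ⟨p, hp, hpd⟩ := Nat.exists_prime_and_dvd (index_ne_one hG hx)
    exact ⟨p, hp, hpd.trans (C x).index_dvd_card, hpd⟩
  have hnac : ¬ a ∣ c := fun h => by
    obtain ⟨p, hp, hpd, hpa⟩ := hnotall a ha
    rcases hmiss p hp hpd with e | e | e
    · exact e hpa
    · exact e (hpa.trans hab)
    · exact e (hpa.trans h)
  have hnca : ¬ c ∣ a := fun h => by
    obtain ⟨p, hp, hpd, hpc⟩ := hnotall c hc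
    rcases hmiss p hp hpd with e | e | e
    · exact e (hpc.trans h)
    · exact e (hpc.trans (h.trans hab))
    · exact e hpc
  refine ⟨a, b, c, ⟨fun x hx => ?_, ?_, ?_, hab, hne, ?_, hnca, hnac, fun h => hnac (hab.trans h)⟩⟩
  · have : (C x).index ∈ I := ⟨x, hx, rfl⟩
    rw [hI] at this
    simpa using this
  · obtain ⟨x, hx, e⟩ := ha; exact ⟨x, hx, e.symm⟩
  · obtain ⟨x, hx, e⟩ := hc; exact ⟨x, hx, e.symm⟩
  · refine Nat.coprime_of_dvd fun p hp hpa hpc => ?_
    obtain ⟨x, hx, rfl⟩ := ha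
    rcases hmiss p hp (hpa.trans (C x).index_dvd_card) with e | e | e
    · exact e hpa
    · exact e (hpa.trans hab)
    · exact e hpc

namespace Chain

variable [IsSimpleGroup G] {a b c : ℕ}

theorem false_pair (h : Chain G a b c) (hG : ¬ IsMulCommutative G) {x y : G} (hx : x ≠ 1)
    (hy : y ≠ 1) (hxa : (C x).index = a) (hyc : (C y).index = c) (hxy : Commute x y) : False :=
  false_of_commute_coprime hG hx hy (by rw [hxa, hyc]; exact h.coprime) hxy

theorem pow_eq_a (h : Chain G a b c) {x : G} (hxa : (C x).index = a) {j : ℕ} (hj : x ^ j ≠ 1) :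
    (C (x ^ j)).index = a := by
  have hd : (C (x ^ j)).index ∣ a := hxa ▸ Subgroup.index_dvd_of_le (C_le_pow x j)
  rcases h.values _ hj with e | e | e
  · exact e
  · exact absurd (Nat.dvd_antisymm h.dvd (e ▸ hd)) h.ne
  · exact absurd (e ▸ hd) h.nca

theorem pow_eq_c (h : Chain G a b c) {y : G} (hyc : (C y).index = c) {j : ℕ} (hj : y ^ j ≠ 1) :
    (C (y ^ j)).index = c := by
  have hd : (C (y ^ j)).index ∣ c := hyc ▸ Subgroup.index_dvd_of_le (C_le_pow y j)
  rcases h.values _ hj with e | e | e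
  · exact absurd (e ▸ hd) h.nac
  · exact absurd (e ▸ hd) h.nbc
  · exact e

theorem minimal_b (h : Chain G a b c) {u : G} (hub : (C u).index = b) : Minimal u := by
  intro v hv hle
  have hd : b ∣ (C v).index := hub ▸ Subgroup.index_dvd_of_le hle
  refine Subgroup.eq_of_le_of_card_ge hle ?_
  have e : (C v).index = (C u).index := by
    rw [hub]
    rcases h.values v hv with e | e | e
    · exact absurd (Nat.dvd_antisymm h.dvd (e ▸ hd)) h.ne
    · exact e
    · exact absurd (e ▸ hd) h.nbc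
  have h1 := (C u).card_mul_index
  rw [← (C v).card_mul_index, e] at h1
  exact (Nat.eq_of_mul_eq_mul_right (Nat.pos_of_ne_zero Subgroup.index_ne_zero_of_finite) h1).le

/-- Only `p`-elements of the extreme class sizes commute with a `p`-element of middle class size
commuting with both kinds. -/
theorem pElement (h : Chain G a b c) (hG : ¬ IsMulCommutative G) {p : ℕ} [Fact p.Prime] {u x y : G}
    (hu : u ≠ 1) {k : ℕ} (huo : orderOf u ∣ p ^ k) (hub : (C u).index = b) (hx : x ≠ 1) (hy : y ≠ 1)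
    (hxa : (C x).index = a) (hyc : (C y).index = c) (hxu : Commute x u) (hyu : Commute y u) :
    (∃ i, orderOf x ∣ p ^ i) ∧ ∃ i, orderOf y ∣ p ^ i := by
  constructor
  · obtain ⟨i, j, hij, hjco, l, hil⟩ := exists_parts p x
    by_cases hj1 : x ^ j = 1
    · rw [hj1, mul_one] at hij
      exact ⟨l, hij ▸ hil⟩
    exfalso
    refine h.false_pair hG hj1 hy (h.pow_eq_a hxa hj1) hyc ?_
    exact (mem_C.mp ((h.minimal_b hub).le_C hu (mem_C.mpr (hxu.pow_left j))
      (Nat.Coprime.coprime_dvd_left huo (hjco.symm.pow_left k)) (mem_C.mpr hyu))).symm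
  · obtain ⟨i, j, hij, hjco, l, hil⟩ := exists_parts p y
    by_cases hj1 : y ^ j = 1
    · rw [hj1, mul_one] at hij
      exact ⟨l, hij ▸ hil⟩
    exfalso
    refine h.false_pair hG hx hj1 hxa (h.pow_eq_c hyc hj1) ?_
    exact mem_C.mp ((h.minimal_b hub).le_C hu (mem_C.mpr (hyu.pow_left j))
      (Nat.Coprime.coprime_dvd_left huo (hjco.symm.pow_left k)) (mem_C.mpr hxu))

theorem exists_a (h : Chain G a b c) {p : ℕ} [Fact p.Prime] (hp : ¬ p ∣ a) (P : Sylow p G) :
    ∃ x : G, x ≠ 1 ∧ (C x).index = a ∧ (P : Subgroup G) ≤ C x := by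
  obtain ⟨x, hx, hxa⟩ := h.ex_a
  obtain ⟨g, hg⟩ := exists_conj_ge (x := x) (by rwa [hxa]) P
  exact ⟨_, fun e => hx (conj_eq_one_iff.mp e), (index_conj g x).trans hxa, hg⟩

theorem exists_c (h : Chain G a b c) {p : ℕ} [Fact p.Prime] (hp : ¬ p ∣ c) (P : Sylow p G) :
    ∃ x : G, x ≠ 1 ∧ (C x).index = c ∧ (P : Subgroup G) ≤ C x := by
  obtain ⟨x, hx, hxc⟩ := h.ex_c
  obtain ⟨g, hg⟩ := exists_conj_ge (x := x) (by rwa [hxc]) P
  exact ⟨_, fun e => hx (conj_eq_one_iff.mp e), (index_conj g x).trans hxc, hg⟩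

theorem prime_of_card {p q : ℕ} (hp : p.Prime) (hq : q.Prime) {x : G} (hx : x ≠ 1) {i : ℕ}
    (hi : orderOf x ∣ p ^ i) {j : ℕ} (hj : orderOf x ∣ q ^ j) : p = q := by
  by_contra hne
  exact hx (orderOf_eq_one_iff.mp (Nat.dvd_one.mp
    (((Nat.coprime_primes hp hq).mpr hne).pow i j ▸ Nat.dvd_gcd hi hj)))

theorem p_power_of_mem {p : ℕ} [Fact p.Prime] (P : Sylow p G) {u : G} (hu : u ∈ (P : Subgroup G)) :
    ∃ k, orderOf u ∣ p ^ k := by
  obtain ⟨k, hk⟩ := IsPGroup.iff_orderOf.mp P.2 ⟨u, hu⟩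
  exact ⟨k, by rw [← hk, Subgroup.orderOf_mk]⟩

/-- Every prime divides one of the extreme class sizes. -/
theorem dvd_or (h : Chain G a b c) (hG : ¬ IsMulCommutative G) {p : ℕ} (hp : p.Prime)
    (hpd : p ∣ Nat.card G) : p ∣ a ∨ p ∣ c := by
  have := Fact.mk hp
  by_contra hcon
  push Not at hcon
  obtain ⟨P⟩ : Nonempty (Sylow p G) := inferInstance
  obtain ⟨z, hzP, hz1, -, hzd⟩ := exists_sylow_central hpd P
  obtain ⟨k, hk⟩ := p_power_of_mem P hzP
  obtain ⟨x0, hx0, hxa0, hxP0⟩ := h.exists_a hcon.1 P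
  obtain ⟨y0, hy0, hyc0, hyP0⟩ := h.exists_c hcon.2 P
  have hxz : Commute x0 z := (mem_C.mp (hxP0 hzP)).symm
  have hyz : Commute y0 z := (mem_C.mp (hyP0 hzP)).symm
  have hzb : (C z).index = b := by
    rcases h.values z hz1 with e | e | e
    · exact (h.false_pair hG hz1 hy0 e hyc0 hyz.symm).elim
    · exact e
    · exact (h.false_pair hG hx0 hz1 hxa0 e hxz).elim
  -- both kinds consist of `p`-elements
  have hpe : ∀ x : G, x ≠ 1 → ((C x).index = a ∨ (C x).index = c) → ∃ i, orderOf x ∣ p ^ i := by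
    intro x hx hxv
    obtain ⟨g, hg⟩ := exists_conj_ge (x := x)
      (by rcases hxv with e | e <;> rw [e]; exacts [hcon.1, hcon.2]) P
    have hgx : g * x * g⁻¹ ≠ 1 := fun e => hx (conj_eq_one_iff.mp e)
    have hgz : Commute (g * x * g⁻¹) z := (mem_C.mp (hg hzP)).symm
    have hord : orderOf (g * x * g⁻¹) = orderOf x := MulEquiv.orderOf_eq (MulAut.conj g) x
    rcases hxv with e | e
    · rw [← hord]
      exact (h.pElement hG hz1 hk hzb hgx hy0 ((index_conj g x).trans e) hyc0 hgz hyz).1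
    · rw [← hord]
      exact (h.pElement hG hz1 hk hzb hx0 hgx hxa0 ((index_conj g x).trans e) hxz hgz).2
  obtain ⟨q, hq, hqb⟩ := Nat.exists_prime_and_dvd (hzb ▸ index_ne_one hG hz1 : b ≠ 1)
  have hqd : q ∣ Nat.card G := hqb.trans (hzb ▸ (C z).index_dvd_card)
  have := Fact.mk hq
  obtain ⟨Q⟩ : Nonempty (Sylow q G) := inferInstance
  obtain ⟨w, hwQ, hw1, -, hwd⟩ := exists_sylow_central hqd Q
  obtain ⟨l, hl⟩ := p_power_of_mem Q hwQ
  have hwne : (C w).index ≠ b := fun e => hwd (e ▸ hqb)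
  have hwv : (C w).index = a ∨ (C w).index = c := by
    rcases h.values w hw1 with e | e | e
    · exact Or.inl e
    · exact absurd e hwne
    · exact Or.inr e
  obtain ⟨i, hi⟩ := hpe w hw1 hwv
  have hpq := prime_of_card hp hq hw1 hi hl
  subst hpq
  exact hzd (hzb ▸ hqb)

theorem not_p_of_a (h : Chain G a b c) (hG : ¬ IsMulCommutative G) {p : ℕ} [Fact p.Prime]
    (hpc : ¬ p ∣ c) {x : G} (hx : x ≠ 1) (hxa : (C x).index = a) {i : ℕ}
    (hi : orderOf x ∣ p ^ i) : False := by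
  have hP : IsPGroup p (Subgroup.zpowers x) := by
    obtain ⟨k, -, hk⟩ := (Nat.dvd_prime_pow Fact.out).mp hi
    exact IsPGroup.of_card (n := k) (by rw [Nat.card_zpowers, hk])
  obtain ⟨P, hle⟩ := hP.exists_le_sylow
  obtain ⟨y, hy, hyc, hyP⟩ := h.exists_c hpc P
  exact h.false_pair hG hx hy hxa hyc (mem_C.mp (hyP (hle (Subgroup.mem_zpowers x))))

theorem not_p_of_c (h : Chain G a b c) (hG : ¬ IsMulCommutative G) {p : ℕ} [Fact p.Prime]
    (hpa : ¬ p ∣ a) {y : G} (hy : y ≠ 1) (hyc : (C y).index = c) {i : ℕ}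
    (hi : orderOf y ∣ p ^ i) : False := by
  have hP : IsPGroup p (Subgroup.zpowers y) := by
    obtain ⟨k, -, hk⟩ := (Nat.dvd_prime_pow Fact.out).mp hi
    exact IsPGroup.of_card (n := k) (by rw [Nat.card_zpowers, hk])
  obtain ⟨P, hle⟩ := hP.exists_le_sylow
  obtain ⟨x, hx, hxa, hxP⟩ := h.exists_a hpa P
  exact h.false_pair hG hx hy hxa hyc (mem_C.mp (hxP (hle (Subgroup.mem_zpowers y)))).symm

theorem coprime_card_a (h : Chain G a b c) (hG : ¬ IsMulCommutative G) {x : G} (hx : x ≠ 1)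
    (hxa : (C x).index = a) : (Nat.card (C x)).Coprime a := by
  refine Nat.coprime_of_dvd fun q hq hqC hqa => ?_
  have := Fact.mk hq
  have hqc : ¬ q ∣ c := fun hqc => hq.not_dvd_one (h.coprime ▸ Nat.dvd_gcd hqa hqc)
  obtain ⟨⟨u, hu⟩, huo⟩ := exists_prime_orderOf_dvd_card' q hqC
  rw [Subgroup.orderOf_mk] at huo
  have hu1 : u ≠ 1 := fun e => hq.ne_one (by rw [← huo, e, orderOf_one])
  have hP : IsPGroup q (Subgroup.zpowers u) :=
    IsPGroup.of_card (n := 1) (by rw [Nat.card_zpowers, huo, pow_one])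
  obtain ⟨P, hle⟩ := hP.exists_le_sylow
  obtain ⟨y, hy, hyc, hyP⟩ := h.exists_c hqc P
  have hyu : Commute y u := (mem_C.mp (hyP (hle (Subgroup.mem_zpowers u)))).symm
  rcases h.values u hu1 with e | e | e
  · exact h.false_pair hG hu1 hy e hyc hyu.symm
  · obtain ⟨⟨i, hi⟩, -⟩ := h.pElement hG hu1 (k := 1) (by rw [huo, pow_one]) e hx hy hxa hyc
      (mem_C.mp hu).symm hyu
    exact h.not_p_of_a hG hqc hx hxa hi
  · exact h.false_pair hG hx hu1 hxa e (mem_C.mp hu).symm

theorem coprime_card_c (h : Chain G a b c) (hG : ¬ IsMulCommutative G) {y : G} (hy : y ≠ 1)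
    (hyc : (C y).index = c) : (Nat.card (C y)).Coprime c := by
  refine Nat.coprime_of_dvd fun q hq hqC hqc => ?_
  have := Fact.mk hq
  have hqa : ¬ q ∣ a := fun hqa => hq.not_dvd_one (h.coprime ▸ Nat.dvd_gcd hqa hqc)
  obtain ⟨⟨u, hu⟩, huo⟩ := exists_prime_orderOf_dvd_card' q hqC
  rw [Subgroup.orderOf_mk] at huo
  have hu1 : u ≠ 1 := fun e => hq.ne_one (by rw [← huo, e, orderOf_one])
  have hP : IsPGroup q (Subgroup.zpowers u) :=
    IsPGroup.of_card (n := 1) (by rw [Nat.card_zpowers, huo, pow_one])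
  obtain ⟨P, hle⟩ := hP.exists_le_sylow
  obtain ⟨x, hx, hxa, hxP⟩ := h.exists_a hqa P
  have hxu : Commute x u := (mem_C.mp (hxP (hle (Subgroup.mem_zpowers u)))).symm
  rcases h.values u hu1 with e | e | e
  · exact h.false_pair hG hu1 hy e hyc (mem_C.mp hu)
  · obtain ⟨-, ⟨i, hi⟩⟩ := h.pElement hG hu1 (k := 1) (by rw [huo, pow_one]) e hx hy hxa hyc
      hxu (mem_C.mp hu).symm
    exact h.not_p_of_c hG hqa hy hyc hi
  · exact h.false_pair hG hx hu1 hxa e hxu

theorem impossible (h : Chain G a b c) (hG : ¬ IsMulCommutative G) : False := by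
  classical
  have : Fintype G := Fintype.ofFinite G
  obtain ⟨x, hx, hxa⟩ := h.ex_a
  obtain ⟨y, hy, hyc⟩ := h.ex_c
  have hA := (C x).card_mul_index
  have hB := (C y).card_mul_index
  rw [hxa] at hA; rw [hyc] at hB
  have hBa : Nat.card (C y) = a := by
    refine Nat.dvd_antisymm ?_ ?_
    · refine Nat.Coprime.dvd_of_dvd_mul_left (k := Nat.card (C y)) (n := a) (m := Nat.card (C x)) ?_
        (hA ▸ (C y).card_subgroup_dvd_card)
      refine Nat.coprime_of_dvd fun q hq h1 h2 => ?_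
      rcases h.dvd_or hG hq (h1.trans (C y).card_subgroup_dvd_card) with e | e
      · exact hq.not_dvd_one (h.coprime_card_a hG hx hxa ▸ Nat.dvd_gcd h2 e)
      · exact hq.not_dvd_one (h.coprime_card_c hG hy hyc ▸ Nat.dvd_gcd h1 e)
    · exact h.coprime.dvd_of_dvd_mul_right (hB.symm ▸ hxa ▸ (C x).index_dvd_card)
  have hAc : Nat.card (C x) = c := by
    rw [hBa, mul_comm] at hB
    exact Nat.eq_of_mul_eq_mul_right (hxa ▸ Nat.pos_of_ne_zero Subgroup.index_ne_zero_of_finite)
      (hA.trans hB.symm)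
  -- all centralisers in `B` have the order of `B`
  have hvc : ∀ v ∈ C y, v ≠ 1 → (C v).index = c := by
    intro v hv hv1
    have hva : orderOf v ∣ a := hBa ▸ Subgroup.orderOf_dvd_natCard _ hv
    have hself := Subgroup.orderOf_dvd_natCard _ (self_mem_C v)
    have hno : ¬ a ∣ (C v).index := by
      rintro ⟨t, ht⟩
      have h1 := (C v).card_mul_index
      rw [ht, ← hA, hAc] at h1
      have h2 : Nat.card (C v) ∣ c := ⟨t, Nat.eq_of_mul_eq_mul_left
        (hxa ▸ Nat.pos_of_ne_zero Subgroup.index_ne_zero_of_finite : 0 < a) (by linarith)⟩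
      exact hv1 (orderOf_eq_one_iff.mp (Nat.dvd_one.mp
        (h.coprime ▸ Nat.dvd_gcd hva (hself.trans h2))))
    rcases h.values v hv1 with e | e | e
    · exact absurd (e ▸ dvd_rfl) hno
    · exact absurd (e ▸ h.dvd) hno
    · exact e
  have hcard : ∀ v ∈ C y, v ≠ 1 → Nat.card (C v) = a := by
    intro v hv hv1
    have h1 := (C v).card_mul_index
    rw [hvc v hv hv1, ← hB, hBa] at h1
    exact Nat.eq_of_mul_eq_mul_right
      (hyc ▸ Nat.pos_of_ne_zero Subgroup.index_ne_zero_of_finite) h1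
  have hmin : ∀ v ∈ C y, v ≠ 1 → Minimal v := by
    intro v hv hv1 u hu hle
    refine Subgroup.eq_of_le_of_card_ge hle (le_of_eq ?_)
    rw [hcard v hv hv1]
    have hd : Nat.card (C u) ∣ a := hcard v hv hv1 ▸ Subgroup.card_dvd_of_le hle
    rcases h.values u hu with e | e | e
    · exfalso
      have h1 := (C u).card_mul_index
      rw [e, ← hA, hAc] at h1
      have := Nat.eq_of_mul_eq_mul_right (hxa ▸ Nat.pos_of_ne_zero Subgroup.index_ne_zero_of_finite) h1
      rw [this] at hd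
      exact h.nca hd
    · exfalso
      obtain ⟨t, ht⟩ := h.dvd
      have h1 := (C u).card_mul_index
      rw [e, ht, ← hA, hAc] at h1
      have h2 : Nat.card (C u) ∣ c := ⟨t, Nat.eq_of_mul_eq_mul_left
        (hxa ▸ Nat.pos_of_ne_zero Subgroup.index_ne_zero_of_finite : 0 < a) (by linarith)⟩
      have h3 : Nat.card (C u) = 1 := Nat.dvd_one.mp (h.coprime ▸ Nat.dvd_gcd hd h2)
      exact hu (Subgroup.mem_bot.mp (Subgroup.card_eq_one.mp h3 ▸ self_mem_C u))
    · have h1 := (C u).card_mul_index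
      rw [e, ← hB, hBa] at h1
      exact (Nat.eq_of_mul_eq_mul_right
        (hyc ▸ Nat.pos_of_ne_zero Subgroup.index_ne_zero_of_finite) h1).symm
  have heq : ∀ v ∈ C y, v ≠ 1 → C y ≤ C v → C v = C y := fun v hv hv1 hle =>
    (Subgroup.eq_of_le_of_card_ge hle (by rw [hcard v hv hv1, hBa])).symm
  -- `B` is commutative
  obtain ⟨p, hp, hpa⟩ := Nat.exists_prime_and_dvd (mt orderOf_eq_one_iff.mp hy)
  have := Fact.mk hp
  have hy' : orderOf (y ^ (orderOf y / p)) = p := orderOf_pow_orderOf_div (orderOf_pos y).ne' hpa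
  set y' := y ^ (orderOf y / p)
  have hy'1 : y' ≠ 1 := fun e => hp.ne_one (by rw [← hy', e, orderOf_one])
  have hy'C : y' ∈ C y := pow_mem (self_mem_C y) _
  have hyy : C y' = C y := heq y' hy'C hy'1 (C_le_pow y _)
  obtain ⟨q, hq, hqp, hqa⟩ : ∃ q : ℕ, q.Prime ∧ q ≠ p ∧ q ∣ a := by
    by_contra hno
    push Not at hno
    have ha0 : a ≠ 0 := hxa ▸ Subgroup.index_ne_zero_of_finite
    have := Fintype.ofFinite G
    have h1 : a = p ^ a.primeFactorsList.length :=
      Nat.eq_prime_pow_of_unique_prime_dvd ha0 fun {d} hd hda => by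
        by_contra hne
        exact hno d hd hne hda
    have hprime := CfsgLib.Char.prime_card_of_prime_power_class p _ hp x hx (hxa.trans h1)
    haveI : Fact (Nat.card G).Prime := ⟨hprime⟩
    haveI : IsCyclic G := isCyclic_of_prime_card rfl
    exact hG IsCyclic.isMulCommutative
  have := Fact.mk hq
  obtain ⟨⟨w, hwC⟩, hw⟩ := exists_prime_orderOf_dvd_card' q (hBa.symm ▸ hqa)
  rw [Subgroup.orderOf_mk] at hw
  have hw1 : w ≠ 1 := fun e => hq.ne_one (by rw [← hw, e, orderOf_one])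
  have hwy : C w = C y := by
    refine heq w hwC hw1 ?_
    rw [← hyy]
    exact (hmin y' hy'C hy'1).le_C hy'1 (hyy ▸ hwC)
      (by rw [hy', hw]; exact (Nat.coprime_primes hp hq).mpr (Ne.symm hqp))
  have hcomm : ∀ u ∈ C y, ∀ v ∈ C y, u * v = v * u := by
    intro u hu v hv
    obtain ⟨i, j, hij, hjco, k, hik⟩ := exists_parts p u
    have h1 : C y' ≤ C (u ^ j) := (hmin y' hy'C hy'1).le_C hy'1 (hyy ▸ pow_mem hu j)
      (by rw [hy']; exact hjco.symm)
    have h2 : C w ≤ C (u ^ i) := (hmin w hwC hw1).le_C hw1 (hwy ▸ pow_mem hu i)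
      (Nat.Coprime.coprime_dvd_right hik (by
        rw [hw]; exact ((Nat.coprime_primes hq hp).mpr hqp).pow_right k))
    rw [hwy] at h2; rw [hyy] at h1
    have := (mem_C.mp (h2 hv)).symm.mul_left (mem_C.mp (h1 hv)).symm
    rw [hij] at this
    exact this.eq
  refine Factor.Setup.absurd (x := x) (B := C y) ⟨hx, fun e => hy ?_, hcomm,
    fun v hv hv1 => heq v hv hv1 fun u hu => mem_C.mpr (hcomm u hu v hv), ?_, ?_, fun z hz => ?_⟩
  · exact Subgroup.mem_bot.mp (e ▸ self_mem_C y)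
  · rw [hBa]; exact h.coprime_card_a hG hx hxa
  · rw [hBa]; exact hA
  · rw [hBa, hAc]
    rcases h.values z hz with e | e | e
    · exact Or.inl (e ▸ dvd_rfl)
    · exact Or.inl (e ▸ h.dvd)
    · exact Or.inr e

end Chain

/-- A simple group with three class sizes of non-identity elements is `PSL(2, 2^f)`. -/
theorem classify_three [IsSimpleGroup G] (hG : ¬ IsMulCommutative G)
    (h3 : {m : ℕ | ∃ x : G, x ∉ Subgroup.center G ∧
      m = (Subgroup.centralizer ({x} : Set G)).index}.ncard = 3) :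
    ∃ (f : ℕ) (F : Type) (_ : Field F) (_ : Fintype F), 2 ≤ f ∧ Fintype.card F = 2 ^ f ∧
      Nonempty (G ≃* Matrix.ProjectiveSpecialLinearGroup (Fin 2) F) := by
  have hZ : Subgroup.center G = ⊥ := by
    rcases (inferInstance : (Subgroup.center G).Normal).eq_bot_or_eq_top with e | e
    · exact e
    · exact absurd (⟨⟨fun a b => (Subgroup.mem_center_iff.mp (e ▸ Subgroup.mem_top b) a)⟩⟩ :
        IsMulCommutative G) hG
  simp only [hZ, Subgroup.mem_bot] at h3
  rcases three_dichotomy hG h3 with hF | ⟨a, b, c, h⟩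
  · exact classify hF hG
  · exact (h.impossible hG).elim

end CfsgLib.ConjRank
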