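import Mathlib
import Cfsg.Agent.Lib.Invol.AIC
import Cfsg.Agent.S0183

/-!
# Simple groups without proper containment among centralisers

If no centraliser of a non-identity element is properly contained in another one, centralisers are
abelian or of prime power order and Sylow 2-subgroups are abelian, so that all involution
centralisers are abelian.
-/

set_option autoImplicit false
set_option linter.unusedSectionVars false
set_option linter.style.haveILetI false

namespace CfsgLib.ConjRank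

variable {G : Type*} [Group G]

/-- The centraliser of an element. -/
abbrev C (x : G) : Subgroup G := Subgroup.centralizer ({x} : Set G)

theorem mem_C {x y : G} : y ∈ C x ↔ Commute y x := Subgroup.mem_centralizer_singleton_iff

theorem self_mem_C (x : G) : x ∈ C x := mem_C.mpr (Commute.refl x)

theorem C_le_pow (x : G) (j : ℕ) : C x ≤ C (x ^ j) :=
  fun _ h => mem_C.mpr ((mem_C.mp h).pow_right j)

/-- `C x` is minimal among the centralisers of non-identity elements. -/
def Minimal (x : G) : Prop := ∀ y : G, y ≠ 1 → C y ≤ C x → C y = C x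

variable [Finite G]

/-- In a minimal centraliser the elements of coprime order are central. -/
theorem Minimal.le_C {x : G} (h : Minimal x) (hx : x ≠ 1) {a : G} (ha : a ∈ C x)
    (hco : (orderOf x).Coprime (orderOf a)) : C x ≤ C a := by
  have hc : Commute x a := (mem_C.mp ha).symm
  obtain ⟨i, hi⟩ : ∃ i : ℕ, (x * a) ^ i = x := by
    obtain ⟨i, hi1, hi2⟩ := Nat.chineseRemainder hco 1 0
    refine ⟨i, ?_⟩
    rw [hc.mul_pow, pow_eq_pow_iff_modEq.mpr hi1, pow_eq_pow_iff_modEq.mpr hi2, pow_zero, pow_one,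
      mul_one]
  have hne : x * a ≠ 1 := fun e => hx (by rw [← hi, e, one_pow])
  have hle : C (x * a) ≤ C x := fun z hz => by
    have := C_le_pow (x * a) i hz
    rwa [hi] at this
  intro z hz
  have hz2 : z ∈ C (x * a) := by rw [h _ hne hle]; exact hz
  refine mem_C.mpr ?_
  have h1 := (mem_C.mp hz).inv_right.mul_right (mem_C.mp hz2)
  simpa using h1

/-- An element is the product of its `p`-part and its `p'`-part. -/
theorem exists_parts (p : ℕ) [hp : Fact p.Prime] (c : G) :
    ∃ i j : ℕ, c ^ i * c ^ j = c ∧ (orderOf (c ^ j)).Coprime p ∧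
      ∃ k, orderOf (c ^ i) ∣ p ^ k := by
  obtain ⟨k, m, hm, hk⟩ := Nat.exists_eq_pow_mul_and_not_dvd (orderOf_pos c).ne' p hp.out.ne_one
  obtain ⟨i, hi1, hi2⟩ := Nat.chineseRemainder
    ((hp.out.coprime_iff_not_dvd.mpr hm).pow_left k) 1 0
  obtain ⟨j, hj1, hj2⟩ := Nat.chineseRemainder
    ((hp.out.coprime_iff_not_dvd.mpr hm).pow_left k) 0 1
  refine ⟨i, j, ?_, ?_, k, ?_⟩
  · rw [← pow_add]
    conv_rhs => rw [← pow_one c]
    rw [pow_eq_pow_iff_modEq, hk]
    exact (Nat.modEq_and_modEq_iff_modEq_mul ((hp.out.coprime_iff_not_dvd.mpr hm).pow_left k)).mp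
      ⟨by simpa using hi1.add hj1, by simpa using hi2.add hj2⟩
  · refine Nat.Coprime.coprime_dvd_left ?_ (hp.out.coprime_iff_not_dvd.mpr hm).symm
    refine orderOf_dvd_of_pow_eq_one ?_
    rw [← pow_mul]
    refine orderOf_dvd_iff_pow_eq_one.mp ?_
    rw [hk]
    exact Nat.mul_dvd_mul (Nat.modEq_zero_iff_dvd.mp hj1) dvd_rfl
  · refine orderOf_dvd_of_pow_eq_one ?_
    rw [← pow_mul]
    refine orderOf_dvd_iff_pow_eq_one.mp ?_
    rw [hk, mul_comm i]
    exact Nat.mul_dvd_mul dvd_rfl (Nat.modEq_zero_iff_dvd.mp hi2)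

section FGroup

variable (hF : ∀ x y : G, x ≠ 1 → y ≠ 1 → C x ≤ C y → C x = C y)

include hF

theorem minimal_of_F {x : G} (hx : x ≠ 1) : Minimal x := fun y hy h => hF y x hy hx h

/-- Centralisers are commutative or of prime power order. -/
theorem comm_or_pgroup {x : G} (hx : x ≠ 1) :
    (∀ a ∈ C x, ∀ b ∈ C x, Commute a b) ∨ ∃ p : ℕ, p.Prime ∧ IsPGroup p (C x) := by
  obtain ⟨p, hp, hpd⟩ := Nat.exists_prime_and_dvd (mt orderOf_eq_one_iff.mp hx)
  have := Fact.mk hp
  have hy : orderOf (x ^ (orderOf x / p)) = p := orderOf_pow_orderOf_div (orderOf_pos x).ne' hpd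
  set y := x ^ (orderOf x / p)
  have hy1 : y ≠ 1 := fun e => hp.ne_one (by rw [← hy, e, orderOf_one])
  have hC : C x = C y := hF x y hx hy1 (C_le_pow x _)
  rw [hC]
  by_cases hP : IsPGroup p (C y)
  · exact Or.inr ⟨p, hp, hP⟩
  left
  obtain ⟨⟨c, hc⟩, hcp⟩ : ∃ c : C y, ∀ k, c ^ p ^ k ≠ 1 := by
    simpa [IsPGroup] using hP
  obtain ⟨i, j, hij, hjco, k, hik⟩ := exists_parts p c
  have hd1 : c ^ j ≠ 1 := fun e => by
    rw [e, mul_one] at hij
    rw [hij] at hik
    exact hcp k (Subtype.ext (orderOf_dvd_iff_pow_eq_one.mp hik))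
  have hdC : c ^ j ∈ C y := pow_mem hc j
  have hyd : C y = C (c ^ j) := hF _ _ hy1 hd1
    ((minimal_of_F hF hy1).le_C hy1 hdC (by rw [hy]; exact hjco.symm))
  intro a ha b hb
  obtain ⟨i', j', hij', hj'co, k', hik'⟩ := exists_parts p a
  have h1 : C y ≤ C (a ^ j') := (minimal_of_F hF hy1).le_C hy1 (pow_mem ha j')
    (by rw [hy]; exact hj'co.symm)
  have h2 : C (c ^ j) ≤ C (a ^ i') := (minimal_of_F hF hd1).le_C hd1
    (by rw [← hyd]; exact pow_mem ha i') (Nat.Coprime.coprime_dvd_right hik' (hjco.pow_right k'))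
  rw [← hyd] at h2
  have := (mem_C.mp (h2 hb)).symm.mul_left (mem_C.mp (h1 hb)).symm
  rwa [hij'] at this

/-- A Sylow 2-subgroup is commutative. -/
theorem sylow_two_comm (P : Sylow 2 G) :
    ∀ a ∈ (P : Subgroup G), ∀ b ∈ (P : Subgroup G), Commute a b := by
  have : Fact (Nat.Prime 2) := ⟨Nat.prime_two⟩
  by_contra hnc
  -- a power of an element is central only if the element is
  have key : ∀ v : G, v ∈ (P : Subgroup G) → ∀ j : ℕ, v ^ j ≠ 1 →
      (∀ w ∈ (P : Subgroup G), Commute w (v ^ j)) → ∀ w ∈ (P : Subgroup G), Commute w v := by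
    intro v hv j hj hc w hw
    have hv1 : v ≠ 1 := fun e => hj (by rw [e, one_pow])
    rw [← mem_C, hF v (v ^ j) hv1 hj (C_le_pow v j), mem_C]
    exact hc w hw
  set Z := Subgroup.center (P : Subgroup G)
  have hnt : Nontrivial ((P : Subgroup G) ⧸ Z) := by
    rw [QuotientGroup.nontrivial_iff]
    intro htop
    refine hnc fun a ha b hb => ?_
    exact (congrArg Subtype.val (Subgroup.mem_center_iff.mp
      (htop ▸ Subgroup.mem_top (⟨a, ha⟩ : (P : Subgroup G)) : _ ∈ Z) ⟨b, hb⟩)).symm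
  have hQ : IsPGroup 2 ((P : Subgroup G) ⧸ Z) := P.2.to_quotient Z
  have hcn : Nontrivial (Subgroup.center ((P : Subgroup G) ⧸ Z)) := hQ.center_nontrivial
  obtain ⟨n, hn, hcard⟩ :=
    (hQ.to_subgroup (Subgroup.center ((P : Subgroup G) ⧸ Z))).nontrivial_iff_card.mp hcn
  obtain ⟨⟨q, hq⟩, hq2⟩ := exists_prime_orderOf_dvd_card' 2
    (show 2 ∣ Nat.card (Subgroup.center ((P : Subgroup G) ⧸ Z)) from hcard ▸ dvd_pow_self 2 hn.ne')
  rw [Subgroup.orderOf_mk] at hq2
  obtain ⟨s, rfl⟩ := QuotientGroup.mk'_surjective Z q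
  have hs : s ∉ Z := fun h => by
    rw [show QuotientGroup.mk' Z s = 1 from (QuotientGroup.eq_one_iff s).mpr h, orderOf_one] at hq2
    omega
  have hs2 : s ^ 2 ∈ Z := (QuotientGroup.eq_one_iff (s ^ 2)).mp (by
    have e := pow_orderOf_eq_one (QuotientGroup.mk' Z s)
    rwa [hq2, ← map_pow] at e)
  have hsb : ∀ b : (P : Subgroup G), s * b * s⁻¹ * b⁻¹ ∈ Z := fun b => by
    rw [← QuotientGroup.eq_one_iff]
    have e := Subgroup.mem_center_iff.mp hq (QuotientGroup.mk' Z b)
    simp only [QuotientGroup.mk'_apply] at e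
    simp [← e]
  have hcomm : ∀ v : (P : Subgroup G), v ∈ Z → ∀ w ∈ (P : Subgroup G), Commute w (v : G) :=
    fun v hv w hw => congrArg Subtype.val (Subgroup.mem_center_iff.mp hv ⟨w, hw⟩)
  have hmemZ : ∀ v : (P : Subgroup G), ∀ j : ℕ, v ^ j ∈ Z → v ^ j ≠ 1 → v ∈ Z := by
    intro v j hvj hne
    refine Subgroup.mem_center_iff.mpr fun w => Subtype.ext ?_
    exact key v v.2 j (fun e => hne (Subtype.ext e)) (fun w hw => hcomm _ hvj w hw) w w.2
  have hss : s * s = 1 := by
    by_contra h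
    exact hs (hmemZ s 2 hs2 (by rwa [pow_two]))
  have hsinv : s⁻¹ = s := inv_eq_of_mul_eq_one_right hss
  -- commutes with the involutions
  have hinv : ∀ b : (P : Subgroup G), b * b = 1 → Commute b s := by
    intro b hb
    have hbinv : b⁻¹ = b := inv_eq_of_mul_eq_one_right hb
    have h2 : (s * b) ^ 2 ∈ Z := by
      have := hsb b
      rwa [hsinv, hbinv, mul_assoc _ s b, ← pow_two] at this
    by_cases h1 : (s * b) ^ 2 = 1
    · have : (s * b)⁻¹ = s * b := inv_eq_of_mul_eq_one_right (by rw [← pow_two, h1])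
      rw [mul_inv_rev, hsinv, hbinv] at this
      exact this
    · have h3 := Subgroup.mem_center_iff.mp (hmemZ (s * b) 2 h2 h1) b
      have h4 : b * s * b = s * b * b := by rw [mul_assoc b, h3]
      exact mul_right_cancel h4
  refine hs (Subgroup.mem_center_iff.mpr fun b => ?_)
  by_cases hb1 : b = 1
  · simp [hb1]
  obtain ⟨k, hk⟩ := IsPGroup.iff_orderOf.mp P.2 b
  obtain ⟨l, rfl⟩ : ∃ l, k = l + 1 := ⟨k - 1, by
    rcases k with _ | k
    · rw [pow_zero, orderOf_eq_one_iff] at hk; exact absurd hk hb1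
    · rfl⟩
  have hi1 : b ^ 2 ^ l ≠ 1 := fun e => by
    have := Nat.le_of_dvd (by positivity) (orderOf_dvd_of_pow_eq_one e)
    rw [hk, pow_succ] at this
    have : 0 < 2 ^ l := by positivity
    omega
  have hi2 : b ^ 2 ^ l * b ^ 2 ^ l = 1 := by
    rw [← pow_add, ← two_mul, ← pow_succ', ← hk, pow_orderOf_eq_one]
  have hg : C (b : G) = C ((b : G) ^ 2 ^ l) := hF _ _ (fun e => hb1 (Subtype.ext e))
    (fun e => hi1 (Subtype.ext e)) (C_le_pow _ _)
  refine Subtype.ext ?_
  have hsC : (s : G) ∈ C (b : G) := by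
    rw [hg, mem_C]
    exact ((hinv _ hi2).map (P : Subgroup G).subtype).symm
  exact (mem_C.mp hsC).symm

theorem abInvCent : CfsgLib.Invol.AIC.AbInvCent G := by
  have : Fact (Nat.Prime 2) := ⟨Nat.prime_two⟩
  intro t a b ht ht1 ha hb
  rcases comm_or_pgroup hF ht1 with h | ⟨p, hp, hP⟩
  · exact h a (mem_C.mpr ha) b (mem_C.mpr hb)
  have hp2 : p = 2 := by
    have ho : orderOf t = 2 := CfsgLib.Invol.CASimple.involution_iff.2 ⟨ht, ht1⟩
    have := Fact.mk hp
    obtain ⟨k, hk⟩ := IsPGroup.iff_orderOf.mp hP ⟨t, self_mem_C t⟩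
    rw [Subgroup.orderOf_mk, ho] at hk
    exact ((Nat.prime_dvd_prime_iff_eq Nat.prime_two hp).mp
      (Nat.prime_two.dvd_of_dvd_pow (dvd_of_eq hk))).symm
  subst hp2
  obtain ⟨P, hle⟩ := hP.exists_le_sylow
  exact sylow_two_comm hF P a (hle (mem_C.mpr ha)) b (hle (mem_C.mpr hb))

theorem isCNGroup : Cfsg.IsCNGroup G := by
  intro x hx
  rcases comm_or_pgroup hF hx with h | ⟨p, hp, hP⟩
  · have : IsMulCommutative (C x) := ⟨⟨fun a b => Subtype.ext (h a a.2 b b.2)⟩⟩
    let _ : CommGroup (C x) := { (inferInstance : Group (C x)) with mul_comm := mul_comm' }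
    exact CommGroup.isNilpotent
  · have := Fact.mk hp
    exact hP.isNilpotent

/-- A nonabelian simple group without containments of centralisers is `PSL(2, 2^f)`. -/
theorem classify [IsSimpleGroup G] (hG : ¬ IsMulCommutative G) :
    ∃ (f : ℕ) (F : Type) (_ : Field F) (_ : Fintype F), 2 ≤ f ∧ Fintype.card F = 2 ^ f ∧
      Nonempty (G ≃* Matrix.ProjectiveSpecialLinearGroup (Fin 2) F) := by
  classical
  have : Fact (Nat.Prime 2) := ⟨Nat.prime_two⟩
  have hns : ¬ Group.IsSolvable G := fun h => hG ⟨⟨IsSimpleGroup.comm_iff_isSolvable.2 h⟩⟩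
  have hev : 2 ∣ Nat.card G := by
    by_contra h2
    exact hns (Cfsg.Agent.S0183.result (Nat.odd_iff.mpr (by omega)) (isCNGroup hF))
  obtain ⟨T⟩ : Nonempty (Sylow 2 G) := inferInstance
  have hT1 : (T : Subgroup G) ≠ ⊥ := T.ne_bot_of_dvd_card hev
  have hTn : ¬ (T : Subgroup G).Normal := fun hn => by
    rcases hn.eq_bot_or_eq_top with e | e
    · exact hT1 e
    · have := ((e ▸ T.2 : IsPGroup 2 (⊤ : Subgroup G)).of_equiv Subgroup.topEquiv).isNilpotent
      exact hns inferInstance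
  have hTc : ¬ IsCyclic (T : Subgroup G) := fun hc => by
    have hmin : (Nat.card G).minFac = 2 := (Nat.minFac_eq_two_iff _).mpr hev
    have hcompl := IsCyclic.isComplement' hmin hc
    set K := (MonoidHom.transferSylow T (hc.normalizer_le_centralizer hmin)).ker
    rcases (inferInstance : K.Normal).eq_bot_or_eq_top with e | e
    · rw [e, Subgroup.isComplement'_bot_left] at hcompl
      exact hTn (hcompl ▸ inferInstance)
    · rw [e, Subgroup.isComplement'_top_left] at hcompl
      exact hT1 hcompl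
  obtain ⟨F, iF, iF', f, hf, hFc, φ, hφ, hker, -⟩ :=
    CfsgLib.Invol.AIC.isOddCover (abInvCent hF) T hTc hTn
  have hZ : Subgroup.center G = ⊥ := by
    rcases (inferInstance : (Subgroup.center G).Normal).eq_bot_or_eq_top with e | e
    · exact e
    · exact absurd (⟨⟨fun a b => (Subgroup.mem_center_iff.mp (e ▸ Subgroup.mem_top b) a)⟩⟩ :
        IsMulCommutative G) hG
  exact ⟨f, F, iF, iF', hf, hFc, ⟨MulEquiv.ofBijective φ
    ⟨(MonoidHom.ker_eq_bot_iff φ).mp (le_bot_iff.mp (hker.trans hZ.le)), hφ⟩⟩⟩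

end FGroup

end CfsgLib.ConjRank
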