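import Cfsg.Agent.Lib.Invol.CAClass
import Cfsg.Agent.Lib.SL2.Centralizer
import Cfsg.Agent.Lib.SL2.UnipotentClasses
import Cfsg.Agent.Lib.SL2.Solvable

/-!
# Class sizes of `PSL(2, 2^m)`
-/

set_option autoImplicit false
set_option linter.style.haveILetI false

namespace CfsgLib.ConjRank

open Matrix CfsgLib.SL2
open scoped MatrixGroups

variable {G : Type*} [Group G]

theorem of_psl {m : ℕ} {F : Type} [Field F] [Fintype F] (hm : 2 ≤ m) (hF : Fintype.card F = 2 ^ m)
    (e : G ≃* ProjectiveSpecialLinearGroup (Fin 2) F) :
    IsSimpleGroup G ∧ ¬ IsMulCommutative G ∧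
      Set.ncard {n : ℕ | ∃ x : G, x ∉ Subgroup.center G ∧
        n = (Subgroup.centralizer ({x} : Set G)).index} = 3 := by
  classical
  have : Fact (Nat.Prime 2) := ⟨Nat.prime_two⟩
  have : CharP F 2 := charP_of_card_eq_prime_pow (f := m) hF
  have hq : 4 ≤ Nat.card F := by
    rw [Nat.card_eq_fintype_card, hF]
    exact le_trans (by norm_num) (Nat.pow_le_pow_right two_pos hm)
  set q := Nat.card F
  have hg : Nat.gcd 2 (q - 1) = 1 := Nat.prime_two.coprime_iff_not_dvd.mpr (by
    have : 2 ∣ q := by
      show 2 ∣ Nat.card F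
      rw [Nat.card_eq_fintype_card, hF]; exact dvd_pow_self 2 (by omega)
    omega)
  have hbij : Function.Bijective (proj (F := F)) :=
    ⟨(MonoidHom.ker_eq_bot_iff _).1 (by
      rw [QuotientGroup.ker_mk', CfsgLib.BrauerReynolds.center_SL_two_of_char_two]),
      proj_surjective⟩
  let φ : G ≃* SL(2, F) := e.trans (MulEquiv.ofBijective _ hbij).symm
  obtain ⟨hs, hns⟩ := four_le_card_of_isSimple (K := F) hq
  have hsG : IsSimpleGroup G := e.isSimpleGroup
  have hncomm : ¬ IsMulCommutative G := fun hc => hns (IsSimpleGroup.comm_iff_isSolvable.mp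
    fun a b => e.symm.injective (by rw [map_mul, map_mul]; exact mul_comm' _ _))
  refine ⟨hsG, hncomm, ?_⟩
  have hidx : ∀ x : G, (Subgroup.centralizer ({x} : Set G)).index = (cent (φ x)).index := fun x => by
    have h1 : cent (φ x) = (Subgroup.centralizer ({x} : Set G)).map φ.toMonoidHom := by
      ext y
      rw [Subgroup.mem_map_equiv, mem_cent_iff, Subgroup.mem_centralizer_singleton_iff]
      constructor
      · intro h
        apply φ.injective
        simpa using h.symm
      · intro h
        have := congrArg φ h
        simpa using this.symm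
    rw [h1]
    exact (Subgroup.index_map_equiv _ φ).symm
  have hcen : ∀ x : G, x ∉ Subgroup.center G ↔
      NonScalar ((φ x : SL(2, F)) : Matrix (Fin 2) (Fin 2) F) := fun x => by
    have hiff : x ∈ Subgroup.center G ↔ φ x ∈ Subgroup.center SL(2, F) := by
      simp only [Subgroup.mem_center_iff]
      constructor
      · intro h y
        obtain ⟨z, rfl⟩ := φ.surjective y
        rw [← map_mul, ← map_mul, h]
      · intro h z
        exact φ.injective (by rw [map_mul, map_mul, h])
    rw [hiff, mem_center_iff_not_nonScalar, not_not]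
  have hindex : ∀ g : SL(2, F), (cent g).index * Nat.card (cent g) = q * ((q - 1) * (q + 1)) :=
    fun g => by rw [Subgroup.index_mul_card, card_SL_two']
  have hset : {n : ℕ | ∃ x : G, x ∉ Subgroup.center G ∧
      n = (Subgroup.centralizer ({x} : Set G)).index} =
        {(q - 1) * (q + 1), q * (q + 1), q * (q - 1)} := by
    apply Set.Subset.antisymm
    · rintro _ ⟨x, hx, rfl⟩
      rw [hidx x]
      have hns := (hcen x).mp hx
      have h1 := hindex (φ x)
      simp only [Set.mem_insert_iff, Set.mem_singleton_iff]
      by_cases hreg : Regular (φ x)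
      · rcases (cent_regular hreg).2 with hc | hc <;> rw [hc] at h1
        · right; left
          refine Nat.eq_of_mul_eq_mul_right (show 0 < q - 1 by omega) (h1.trans ?_)
          ring
        · right; right
          refine Nat.eq_of_mul_eq_mul_right (show 0 < q + 1 by omega) (h1.trans ?_)
          ring
      · rw [card_cent_unipotent hns hreg, hg, mul_one] at h1
        left
        refine Nat.eq_of_mul_eq_mul_right (show 0 < q by omega) (h1.trans ?_)
        ring
    · have mk : ∀ g : SL(2, F), NonScalar (g : Matrix (Fin 2) (Fin 2) F) → ∀ k l : ℕ,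
          Nat.card (cent g) = k → q * ((q - 1) * (q + 1)) = l * k → 0 < k →
          l ∈ {n : ℕ | ∃ x : G, x ∉ Subgroup.center G ∧
            n = (Subgroup.centralizer ({x} : Set G)).index} := by
        intro g hg' k l hk hl hk0
        refine ⟨φ.symm g, (hcen _).mpr (by rwa [φ.apply_symm_apply]), ?_⟩
        rw [hidx, φ.apply_symm_apply]
        refine Nat.eq_of_mul_eq_mul_right hk0 ?_
        rw [← hl, ← hk, hindex]
      simp only [Set.insert_subset_iff, Set.singleton_subset_iff]
      refine ⟨?_, ?_, ?_⟩
      · set u := upperHom (Multiplicative.ofAdd (1 : F))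
        have hu := unip_facts_SL 2 u (orderOf_upperHom 2 one_ne_zero)
        have hnr : ¬ Regular u := fun h => h (by
          rw [hu.1]; norm_num)
        have hns : NonScalar (u : Matrix (Fin 2) (Fin 2) F) := hu.2
        exact mk u hns q _ (by rw [card_cent_unipotent hns hnr, hg, mul_one]) (by ring) (by omega)
      · obtain ⟨g, hgr, -, hc⟩ := exists_regular_split (F := F) hq
        exact mk g hgr.nonScalar (q - 1) _ hc (by ring) (by omega)
      · obtain ⟨g, hgr, -, hc⟩ := exists_regular_nonsplit (F := F)
        exact mk g hgr.nonScalar (q + 1) _ hc (by ring) (by omega)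
  rw [hset]
  have h12 : (q - 1) * (q + 1) ≠ q * (q + 1) := fun h => by
    have := Nat.eq_of_mul_eq_mul_right (show 0 < q + 1 by omega) h; omega
  have h13 : (q - 1) * (q + 1) ≠ q * (q - 1) := fun h => by
    rw [mul_comm q (q - 1)] at h
    have := Nat.eq_of_mul_eq_mul_left (show 0 < q - 1 by omega) h; omega
  have h23 : q * (q + 1) ≠ q * (q - 1) := fun h => by
    have := Nat.eq_of_mul_eq_mul_left (show 0 < q by omega) h; omega
  rw [Set.ncard_insert_of_notMem (by simp [h12, h13]), Set.ncard_pair h23]

end CfsgLib.ConjRank
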